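import Cfsg.Agent.Sourour.Steps

/-!
# Fixed-point-free subspaces of an element of prime order

An element of prime order `r` acts semiregularly on the nonzero vectors of a subspace without fixed
vectors, so the dimension is a multiple of the order of `q` modulo `r`.
-/

set_option linter.unusedSectionVars false
set_option linter.style.haveILetI false

namespace Cfsg.Agent.PSLPrimeGraph

open Module

variable {F : Type*} [Field F] {V : Type*} [AddCommGroup V] [Module F V] [FiniteDimensional F V]

/-- A fixed vector in the image of `x - 1` vanishes. -/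
theorem eq_zero_of_fixed_range {x : Module.End F V} {r : ℕ} (hx : x ^ r = 1) (hr : (r : F) ≠ 0)
    {z : V} (hfix : x z = z) (hz : z ∈ LinearMap.range (x - 1)) : z = 0 := by
  obtain ⟨v, rfl⟩ := hz
  have h1 : ∀ i : ℕ, (x ^ i) ((x - 1) v) = (x - 1) v := by
    intro i
    induction i with
    | zero => simp
    | succ i ih => rw [pow_succ, Module.End.mul_apply, hfix, ih]
  have h2 : ∑ i ∈ Finset.range r, (x ^ i) ((x - 1) v) = 0 := by
    rw [← LinearMap.sum_apply, ← Module.End.mul_apply, geom_sum_mul, hx, sub_self,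
      LinearMap.zero_apply]
  rw [Finset.sum_congr rfl fun i _ => h1 i, Finset.sum_const, Finset.card_range,
    ← Nat.cast_smul_eq_nsmul F] at h2
  exact (smul_eq_zero.1 h2).resolve_left hr

variable [Fintype F]

/-- **The divisibility.** -/
theorem dvd_finrank {x : Module.End F V} {r : ℕ} (hr : r.Prime) (hx : x ^ r = 1) (U : Submodule F V)
    (hinv : ∀ u ∈ U, x u ∈ U) (hfix : ∀ u ∈ U, x u = u → u = 0) :
    orderOf ((Fintype.card F : ℕ) : ZMod r) ∣ finrank F U := by
  classical
  haveI := Fact.mk hr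
  haveI : Finite V := Module.finite_of_finite F
  haveI : Fintype U := Fintype.ofFinite U
  let f : Module.End F U := x.restrict hinv
  have hf : f ^ r = 1 := LinearMap.ext fun u => Subtype.ext (by
    rw [Module.End.pow_restrict, LinearMap.coe_restrict_apply, hx]
    rfl)
  let σ : Equiv.Perm U := MulAction.toPermHom (Module.End F U)ˣ U (Units.ofPowEqOne f r hf hr.ne_zero)
  have hσ : ∀ u, σ u = f u := fun u => rfl
  have hσr : σ ^ r = 1 := by
    show MulAction.toPermHom (Module.End F U)ˣ U (Units.ofPowEqOne f r hf hr.ne_zero) ^ r = 1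
    rw [← map_pow, Units.pow_ofPowEqOne, map_one]
  have hG : IsPGroup r ↥(Subgroup.zpowers σ) := fun g => ⟨1, by
    obtain ⟨i, hi⟩ := Subgroup.mem_zpowers_iff.1 g.2
    refine Subtype.ext ?_
    rw [Subgroup.coe_pow, ← hi, pow_one, ← zpow_natCast, ← _root_.zpow_mul, mul_comm, _root_.zpow_mul,
      zpow_natCast, hσr, _root_.one_zpow, Subgroup.coe_one]⟩
  have hfp : MulAction.fixedPoints ↥(Subgroup.zpowers σ) U = {0} := by
    refine Set.eq_singleton_iff_unique_mem.2 ⟨fun g => ?_, fun u hu => ?_⟩
    · obtain ⟨i, hi⟩ := Subgroup.mem_zpowers_iff.1 g.2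
      show (g : Equiv.Perm U) 0 = 0
      rw [← hi]
      exact Equiv.Perm.zpow_apply_eq_self_of_apply_eq_self (map_zero f) i
    · exact Subtype.ext (hfix _ u.2 (congrArg Subtype.val (hu ⟨σ, Subgroup.mem_zpowers σ⟩)))
  have hmod := hG.card_modEq_card_fixedPoints U
  rw [hfp, Module.natCard_eq_pow_finrank (K := F) (V := U), Nat.card_eq_fintype_card,
    show Nat.card ({0} : Set U) = 1 from Nat.card_eq_one_iff_unique.2 ⟨inferInstance, inferInstance⟩,
    ← ZMod.natCast_eq_natCast_iff, Nat.cast_pow, Nat.cast_one] at hmod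
  exact orderOf_dvd_of_pow_eq_one hmod

/-- Splitting an invariant subspace into fixed and moving parts. -/
theorem dvd_finrank_map {x : Module.End F V} {r : ℕ} (hr : r.Prime) (hrF : (r : F) ≠ 0)
    (hx : x ^ r = 1) (U : Submodule F V) (hinv : ∀ u ∈ U, x u ∈ U) :
    orderOf ((Fintype.card F : ℕ) : ZMod r) ∣ finrank F (U.map (x - 1)) := by
  refine dvd_finrank hr hx _ ?_ fun u hu hxu =>
    eq_zero_of_fixed_range hx hrF hxu (LinearMap.map_le_range hu)
  rintro _ ⟨u, hu, rfl⟩
  refine ⟨x u, hinv u hu, ?_⟩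
  simp

end Cfsg.Agent.PSLPrimeGraph
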