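import Cfsg.Agent.PSLPrimeGraph.Unipotent

/-!
# Primes dividing `q - 1`
-/

set_option linter.unusedSectionVars false
set_option linter.style.haveILetI false

namespace Cfsg.Agent.PSLPrimeGraph

open Matrix Module

variable {F : Type*} [Field F] [Fintype F]

/-- The last nonzero power squares to zero. -/
theorem exists_square_zero {R : Type*} [Ring R] [Nontrivial R] {N X : R} (hN : IsNilpotent N)
    (hN0 : N ≠ 0) (hXN : Commute X N) : ∃ D : R, D ≠ 0 ∧ D * D = 0 ∧ Commute X D := by
  classical
  have hex : ∃ m, N ^ m = 0 := hN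
  have h2 : 2 ≤ Nat.find hex := by
    by_contra h
    have hs := Nat.find_spec hex
    interval_cases hm : Nat.find hex
    · simp at hs
    · exact hN0 (by simpa using hs)
  refine ⟨N ^ (Nat.find hex - 1), Nat.find_min hex (by omega), ?_, hXN.pow_right _⟩
  rw [← pow_add]
  exact pow_eq_zero_of_le (by omega) (Nat.find_spec hex)

/-- In dimension two the centraliser of a square-zero map consists of scalar plus nilpotent maps. -/
theorem nilpotent_two {X D : Module.End F (Fin 2 → F)} (hD0 : D ≠ 0) (hD2 : D * D = 0)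
    (hXD : Commute X D) : ∃ a : F, IsNilpotent (X - a • (1 : Module.End F (Fin 2 → F))) := by
  obtain ⟨e, he⟩ : ∃ e, D e ≠ 0 := by
    by_contra h
    push Not at h
    exact hD0 (LinearMap.ext h)
  have hle : LinearMap.range D ≤ LinearMap.ker D := by
    rintro _ ⟨v, rfl⟩
    exact (congrArg (fun T : Module.End F (Fin 2 → F) => T v) hD2)
  have hsum := LinearMap.finrank_range_add_finrank_ker D
  have hpos : 0 < finrank F (LinearMap.range D) :=
    Nat.pos_of_ne_zero fun h => hD0 (LinearMap.range_eq_bot.1 (Submodule.finrank_eq_zero.1 h))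
  rw [Module.finrank_fin_fun] at hsum
  have h1 := Submodule.finrank_mono hle
  have hker : LinearMap.ker D = Submodule.span F {D e} :=
    (Submodule.eq_of_le_of_finrank_le
      (Submodule.span_le.2 (Set.singleton_subset_iff.2 (hle (LinearMap.mem_range_self D e))))
      (by rw [finrank_span_singleton he]; omega)).symm
  have comm : ∀ v, X (D v) = D (X v) := fun v => by
    rw [← Module.End.mul_apply, hXD.eq, Module.End.mul_apply]
  have hr : LinearMap.range D = LinearMap.ker D :=
    Submodule.eq_of_le_of_finrank_le hle (by omega)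
  obtain ⟨a, ha⟩ : ∃ a : F, X (D e) = a • D e := by
    have : X (D e) ∈ Submodule.span F {D e} := by
      rw [← hker, ← hr, comm]
      exact LinearMap.mem_range_self _ _
    obtain ⟨a, ha⟩ := Submodule.mem_span_singleton.1 this
    exact ⟨a, ha.symm⟩
  obtain ⟨b, hb⟩ : ∃ b : F, X e - a • e = b • D e := by
    have : X e - a • e ∈ Submodule.span F {D e} := by
      rw [← hker, LinearMap.mem_ker, map_sub, map_smul, ← comm, ha, sub_self]
    obtain ⟨b, hb⟩ := Submodule.mem_span_singleton.1 this
    exact ⟨b, hb.symm⟩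
  refine ⟨a, 2, LinearMap.ext fun v => ?_⟩
  obtain ⟨t, ht⟩ : ∃ t : F, D v = t • D e := by
    have : D v ∈ Submodule.span F {D e} := by
      rw [← hker, ← hr]
      exact LinearMap.mem_range_self _ _
    obtain ⟨t, ht⟩ := Submodule.mem_span_singleton.1 this
    exact ⟨t, ht.symm⟩
  obtain ⟨s, hs⟩ : ∃ s : F, v = t • e + s • D e := by
    have : v - t • e ∈ Submodule.span F {D e} := by
      rw [← hker, LinearMap.mem_ker, map_sub, map_smul, ht, sub_self]
    obtain ⟨s, hs⟩ := Submodule.mem_span_singleton.1 this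
    exact ⟨s, eq_add_of_sub_eq' hs.symm⟩
  have hT : ∀ u, (X - a • (1 : Module.End F (Fin 2 → F))) u = X u - a • u := fun u => rfl
  rw [pow_two, Module.End.mul_apply, hT, hT, hs]
  simp only [map_add, map_sub, map_smul, LinearMap.zero_apply]
  have hXe : X e = a • e + b • D e := eq_add_of_sub_eq' hb
  rw [hXe]
  simp only [map_add, map_smul, ha, hXe]
  module

/-- In dimension three, when `X ^ 3` is scalar and `9 ∤ q - 1`. -/
theorem nilpotent_three {X D : Module.End F (Fin 3 → F)} (hD0 : D ≠ 0) (hD2 : D * D = 0)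
    (hXD : Commute X D) (hdet : LinearMap.det X = 1) {c : F} (hc : c ^ 3 = 1)
    (hX3 : X ^ 3 = c • 1) (h9 : ¬ 9 ∣ Fintype.card F - 1) :
    ∃ a : F, IsNilpotent (X - a • (1 : Module.End F (Fin 3 → F))) := by
  classical
  obtain ⟨e, he⟩ : ∃ e, D e ≠ 0 := by
    by_contra h
    push Not at h
    exact hD0 (LinearMap.ext h)
  have hle : LinearMap.range D ≤ LinearMap.ker D := by
    rintro _ ⟨v, rfl⟩
    exact (congrArg (fun T : Module.End F (Fin 3 → F) => T v) hD2)
  have hsum := LinearMap.finrank_range_add_finrank_ker D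
  have hpos : 0 < finrank F (LinearMap.range D) :=
    Nat.pos_of_ne_zero fun h => hD0 (LinearMap.range_eq_bot.1 (Submodule.finrank_eq_zero.1 h))
  rw [Module.finrank_fin_fun] at hsum
  have h1 := Submodule.finrank_mono hle
  have hrange : LinearMap.range D = Submodule.span F {D e} :=
    (Submodule.eq_of_le_of_finrank_le
      (Submodule.span_le.2 (Set.singleton_subset_iff.2 (LinearMap.mem_range_self D e)))
      (by rw [finrank_span_singleton he]; omega)).symm
  have comm : ∀ v, X (D v) = D (X v) := fun v => by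
    rw [← Module.End.mul_apply, hXD.eq, Module.End.mul_apply]
  obtain ⟨y, hy, hy'⟩ : ∃ y, y ∈ LinearMap.ker D ∧ y ∉ Submodule.span F {D e} := by
    have hlt : Submodule.span F {D e} < LinearMap.ker D := by
      refine lt_of_le_of_ne (hrange ▸ hle) fun h => ?_
      rw [hrange, finrank_span_singleton he] at hsum
      rw [← h, finrank_span_singleton he] at hsum
      omega
    exact SetLike.exists_of_lt hlt
  set v : Fin 3 → (Fin 3 → F) := ![D e, y, e] with hv
  have hker : LinearMap.ker D = Submodule.span F {D e, y} := by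
    refine (Submodule.eq_of_le_of_finrank_le ?_ ?_).symm
    · rw [Submodule.span_le, Set.insert_subset_iff, Set.singleton_subset_iff]
      exact ⟨hle (LinearMap.mem_range_self D e), hy⟩
    · have hlt : Submodule.span F {D e} < Submodule.span F {D e, y} := by
        refine lt_of_le_not_ge (Submodule.span_mono (by simp)) fun h => hy' ?_
        exact h (Submodule.subset_span (by simp))
      have := Submodule.finrank_lt_finrank_of_lt hlt
      rw [finrank_span_singleton he] at this
      rw [hrange, finrank_span_singleton he] at hsum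
      omega
  have hspan : ⊤ ≤ Submodule.span F (Set.range v) := by
    intro u _
    obtain ⟨t, ht⟩ : ∃ t : F, t • D e = D u := by
      have : D u ∈ Submodule.span F {D e} := hrange ▸ LinearMap.mem_range_self D u
      exact Submodule.mem_span_singleton.1 this
    have h2 : u - t • e ∈ Submodule.span F {D e, y} := by
      rw [← hker, LinearMap.mem_ker, map_sub, map_smul, ht, sub_self]
    have h3 : Submodule.span F {D e, y} ≤ Submodule.span F (Set.range v) :=
      Submodule.span_mono (by simp [hv, Set.insert_subset_iff])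
    have h4 : t • e ∈ Submodule.span F (Set.range v) :=
      Submodule.smul_mem _ t (Submodule.subset_span ⟨2, by simp [hv]⟩)
    simpa using add_mem (h3 h2) h4
  let B : Basis (Fin 3) F (Fin 3 → F) :=
    basisOfTopLeSpanOfCardEqFinrank v hspan (by simp)
  have hB : ⇑B = v := coe_basisOfTopLeSpanOfCardEqFinrank v hspan (by simp)
  obtain ⟨a, ha⟩ : ∃ a : F, X (D e) = a • D e := by
    have : X (D e) ∈ Submodule.span F {D e} := by
      rw [← hrange, comm]
      exact LinearMap.mem_range_self _ _
    obtain ⟨a, ha⟩ := Submodule.mem_span_singleton.1 this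
    exact ⟨a, ha.symm⟩
  obtain ⟨β, b, hb⟩ : ∃ β b : F, X y = β • D e + b • y := by
    have : X y ∈ Submodule.span F {D e, y} := by
      rw [← hker, LinearMap.mem_ker, ← comm, LinearMap.mem_ker.1 hy, map_zero]
    obtain ⟨β, b, h⟩ := Submodule.mem_span_pair.1 this
    exact ⟨β, b, h.symm⟩
  obtain ⟨γ, δ, hg⟩ : ∃ γ δ : F, X e = γ • D e + δ • y + a • e := by
    have : X e - a • e ∈ Submodule.span F {D e, y} := by
      rw [← hker, LinearMap.mem_ker, map_sub, map_smul, ← comm, ha, sub_self]
    obtain ⟨γ, δ, h⟩ := Submodule.mem_span_pair.1 this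
    exact ⟨γ, δ, by rw [h, sub_add_cancel]⟩
  have h3 : ∀ w, X (X (X w)) = c • w := fun w => by
    have := congrArg (fun T : Module.End F (Fin 3 → F) => T w) hX3
    simpa [pow_succ, Module.End.mul_apply] using this
  have ha3 : a ^ 3 = c := by
    have := h3 (D e)
    rw [ha, map_smul, ha, map_smul, map_smul, ha, smul_smul, smul_smul] at this
    have h4 := smul_left_injective F he this
    linear_combination h4
  have hb3 : b ^ 3 = c := by
    have := h3 y
    rw [hb] at this
    simp only [map_add, map_smul, ha, hb, smul_add, smul_smul] at this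
    by_contra hne
    refine hy' (Submodule.mem_span_singleton.2
      ⟨-(b ^ 3 - c)⁻¹ * (β * a * a + b * β * a + b * b * β), ?_⟩)
    have h5 : (b ^ 3 - c) • y = -((β * a * a + b * β * a + b * b * β) • D e) := by
      rw [sub_smul, sub_eq_iff_eq_add, ← this]
      module
    calc _ = (b ^ 3 - c)⁻¹ • -((β * a * a + b * β * a + b * b * β) • D e) := by module
      _ = (b ^ 3 - c)⁻¹ • ((b ^ 3 - c) • y) := by rw [h5]
      _ = y := by rw [smul_smul, inv_mul_cancel₀ (sub_ne_zero.2 hne), one_smul]
  have hdet' : a * b * a = 1 := by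
    rw [← hdet, ← LinearMap.det_toMatrix B, Matrix.det_fin_three]
    have e0 : X (B 0) = a • B 0 := by rw [hB]; simpa [hv] using ha
    have e1 : X (B 1) = β • B 0 + b • B 1 := by rw [hB]; simpa [hv] using hb
    have e2 : X (B 2) = γ • B 0 + δ • B 1 + a • B 2 := by rw [hB]; simpa [hv] using hg
    simp [LinearMap.toMatrix_apply, e0, e1, e2, map_add, map_smul]
  have ha9 : a ^ 9 = 1 := by rw [show a ^ 9 = (a ^ 3) ^ 3 by ring, ha3, hc]
  have ha0 : a ≠ 0 := fun h => by rw [h] at ha9; simp at ha9
  have hgcd := pow_gcd_eq_one.2 ⟨ha9, FiniteField.pow_card_sub_one_eq_one a ha0⟩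
  have ha31 : a ^ 3 = 1 := by
    obtain ⟨i, hi, hi'⟩ := (Nat.dvd_prime_pow Nat.prime_three).1
      (show Nat.gcd 9 (Fintype.card F - 1) ∣ 3 ^ 2 from Nat.gcd_dvd_left 9 _)
    interval_cases i
    · rw [hi', pow_zero, pow_one] at hgcd
      rw [hgcd, one_pow]
    · rwa [hi', pow_one] at hgcd
    · exact absurd ((show Nat.gcd 9 (Fintype.card F - 1) = 9 from hi') ▸ Nat.gcd_dvd_right 9 _) h9
  have hab : b = a := by linear_combination a * hdet' - b * ha31
  subst hab
  refine ⟨b, 3, B.ext fun i => ?_⟩
  have hT : ∀ u, (X - b • (1 : Module.End F (Fin 3 → F))) u = X u - b • u := fun u => rfl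
  rw [hB, pow_succ, pow_two, Module.End.mul_apply, Module.End.mul_apply]
  fin_cases i <;>
    · simp only [hv, Fin.isValue, Fin.zero_eta, Fin.mk_one, Fin.reduceFinMk, Matrix.cons_val_zero,
        Matrix.cons_val_one, Matrix.cons_val, hT, map_sub, map_add, map_smul, ha, hb, hg,
        LinearMap.zero_apply]
      module

/-- The exceptional cases. -/
theorem no_element_one (p : ℕ) [Fact p.Prime] [CharP F p] {n : ℕ} (hn : 1 ≤ n) {r : ℕ} (hr : r.Prime)
    (hrp : r ≠ p) (hcase : n = 2 ∨ (n = 3 ∧ r = 3 ∧ ¬ 9 ∣ Fintype.card F - 1)) :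
    r * p ∉ Set.range (orderOf : ProjectiveSpecialLinearGroup (Fin n) F → ℕ) := by
  rintro ⟨g, hg⟩
  have hpc := coprime_char (F := F) p
  have hp : p.Prime := Fact.out
  obtain ⟨a, b, ha, hb, hab⟩ := exists_element hr hg hp
  obtain ⟨x, rfl⟩ := QuotientGroup.mk'_surjective _ a
  obtain ⟨y, rfl, hy⟩ := exists_lift hn hpc b (by rw [← hb]; exact pow_orderOf_eq_one b)
  have hxy := commute_lifts hn hpc hy hab
  haveI : Nonempty (Fin n) := ⟨⟨0, hn⟩⟩
  let φ : Matrix (Fin n) (Fin n) F ≃ₐ[F] Module.End F (Fin n → F) := Matrix.toLinAlgEquiv'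
  have hN : IsNilpotent (φ (y : Matrix (Fin n) (Fin n) F) - 1) := ⟨p, by
    rw [← map_one φ, ← map_sub, ← map_pow, sub_pow_char_of_commute (p := p) (Commute.one_right _),
      one_pow, ← coe_pow, hy, Matrix.SpecialLinearGroup.coe_one, sub_self, map_zero]⟩
  have hN0 : φ (y : Matrix (Fin n) (Fin n) F) - 1 ≠ 0 := fun h => hp.ne_one (by
    rw [← hb, show y = 1 from Subtype.ext (φ.injective ((sub_eq_zero.1 h).trans (map_one φ).symm)),
      map_one, orderOf_one])
  have hXN : Commute (φ (x : Matrix (Fin n) (Fin n) F)) (φ (y : Matrix (Fin n) (Fin n) F) - 1) := by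
    refine Commute.sub_right ?_ (Commute.one_right _)
    show _ * _ = _ * _
    rw [← map_mul, ← map_mul, ← Matrix.SpecialLinearGroup.coe_mul, hxy.eq,
      Matrix.SpecialLinearGroup.coe_mul]
  obtain ⟨D, hD0, hD2, hXD⟩ := exists_square_zero hN hN0 hXN
  obtain ⟨t, ht⟩ : ∃ t : F, IsNilpotent (φ (x : Matrix (Fin n) (Fin n) F) - t • 1) := by
    rcases hcase with rfl | ⟨rfl, rfl, h9⟩
    · exact nilpotent_two hD0 hD2 hXD
    · obtain ⟨c, hc, hc'⟩ := (proj_eq_one_iff (x ^ 3)).1 (by
        rw [map_pow]
        exact (congrArg (_ ^ ·) ha.symm).trans (pow_orderOf_eq_one _))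
      refine nilpotent_three hD0 hD2 hXD ((LinearMap.det_toLin' _).trans x.2) hc ?_ h9
      rw [← map_pow, ← coe_pow, ← hc', ← map_one φ, ← map_smul, scalar_apply,
        smul_one_eq_diagonal]
  have hx1 := proj_eq_one_of_nilpotent p hn ((Nat.coprime_primes hr hp).2 hrp)
    (x := x) (a := t) (by rw [← ha]; exact pow_orderOf_eq_one _) (by
      obtain ⟨j, hj⟩ := ht
      refine ⟨j, φ.injective ?_⟩
      rw [map_pow, map_sub, map_zero, scalar_apply, ← smul_one_eq_diagonal, map_smul, map_one]
      exact hj)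
  rw [hx1, orderOf_one] at ha
  exact hr.ne_one ha.symm

end Cfsg.Agent.PSLPrimeGraph
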