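import Cfsg.Agent.PSLPrimeGraph.KOne

/-!
# Existence for primes dividing `q - 1`
-/

set_option linter.unusedSectionVars false
set_option linter.style.haveILetI false

namespace Cfsg.Agent.PSLPrimeGraph

open Matrix

variable {F : Type*} [Field F] [Fintype F]

theorem exists_element_one (p : ℕ) [Fact p.Prime] [CharP F p] {n : ℕ} (hn : 3 ≤ n) {r : ℕ} (hr : r.Prime)
    (hrp : r ≠ p) (hrq : r ∣ Fintype.card F - 1)
    (hne : ¬ (n = 3 ∧ r = 3 ∧ ¬ 9 ∣ Fintype.card F - 1)) :
    r * p ∈ Set.range (orderOf : ProjectiveSpecialLinearGroup (Fin n) F → ℕ) := by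
  classical
  obtain ⟨a, ha0, hpow, hne'⟩ : ∃ a : F, a ≠ 0 ∧ (∀ i : ℕ, i < n → (if i < 2 then a else if i = 2 then (a ^ 2)⁻¹ else 1) ^ r = a ^ r) ∧
      ∃ i : ℕ, i < n ∧ (if i < 2 then a else if i = 2 then (a ^ 2)⁻¹ else 1) ≠ a := by
    by_cases h3 : n = 3 ∧ r = 3
    · obtain ⟨rfl, rfl⟩ := h3
      have h9 : 9 ∣ Fintype.card F - 1 := by
        by_contra h
        exact hne ⟨rfl, rfl, h⟩
      obtain ⟨a, ha⟩ := exists_unit_order (F := F) h9
      have h91 : a ^ 9 = 1 := by rw [← ha]; exact pow_orderOf_eq_one a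
      have ha0 : a ≠ 0 := fun h => by rw [h] at h91; simp at h91
      refine ⟨a, ha0, fun i hi => ?_, 2, by norm_num, fun h => ?_⟩
      · split_ifs with h1 h2
        · rfl
        · rw [inv_pow, ← one_div, div_eq_iff (pow_ne_zero _ (pow_ne_zero _ ha0))]
          linear_combination -h91
        · omega
      · simp only [show ¬ (2 : ℕ) < 2 by norm_num, if_false, if_true] at h
        rw [← one_div, div_eq_iff (pow_ne_zero _ ha0)] at h
        have hdvd := orderOf_dvd_of_pow_eq_one (show a ^ 3 = 1 by linear_combination -h)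
        rw [ha] at hdvd
        exact absurd (Nat.le_of_dvd (by norm_num) hdvd) (by norm_num)
    · obtain ⟨a, ha⟩ := exists_unit_order (F := F) hrq
      have hr1 : a ^ r = 1 := by rw [← ha]; exact pow_orderOf_eq_one a
      have ha0 : a ≠ 0 := fun h => by rw [h, zero_pow hr.ne_zero] at hr1; exact zero_ne_one hr1
      have ha1 : a ≠ 1 := fun h => by rw [h, orderOf_one] at ha; exact hr.ne_one ha.symm
      refine ⟨a, ha0, fun i hi => ?_, ?_⟩
      · split_ifs
        · rfl
        · rw [inv_pow, ← pow_mul, mul_comm, pow_mul, hr1, one_pow, inv_one]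
        · rw [one_pow, hr1]
      · by_cases h4 : 4 ≤ n
        · exact ⟨3, by omega, by simpa using fun h : (1 : F) = a => ha1 h.symm⟩
        · refine ⟨2, by omega, fun h => ?_⟩
          simp only [show ¬ (2 : ℕ) < 2 by norm_num, if_false, if_true] at h
          rw [← one_div, div_eq_iff (pow_ne_zero _ ha0)] at h
          have hdvd := orderOf_dvd_of_pow_eq_one (show a ^ 3 = 1 by linear_combination -h)
          rw [ha] at hdvd
          exact h3 ⟨by omega, (Nat.prime_dvd_prime_iff_eq hr Nat.prime_three).1 hdvd⟩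
  set d : Fin n → F := fun i => if i.val < 2 then a else if i.val = 2 then (a ^ 2)⁻¹ else 1 with hd
  have hprod : ∏ i, d i = 1 := by
    obtain ⟨m, rfl⟩ : ∃ m, n = m + 3 := ⟨n - 3, by omega⟩
    rw [Fin.prod_univ_succ, Fin.prod_univ_succ, Fin.prod_univ_succ]
    have e : ∀ i : Fin m, d i.succ.succ.succ = 1 := fun i => by
      simp only [hd, Fin.val_succ]
      rw [if_neg (by omega), if_neg (by omega)]
    have e0 : d 0 = a := by simp [hd]
    have e1 : d (Fin.succ 0) = a := by simp only [hd, Fin.val_succ, Fin.val_zero]; simp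
    have e2 : d (Fin.succ (Fin.succ 0)) = (a ^ 2)⁻¹ := by
      simp only [hd, Fin.val_succ, Fin.val_zero]; simp
    rw [e0, e1, e2, Finset.prod_congr rfl fun i _ => e i, Finset.prod_const_one]
    field_simp
  let s : Matrix.SpecialLinearGroup (Fin n) F := ⟨diagonal d, by rw [det_diagonal, hprod]⟩
  let i0 : Fin n := ⟨0, by omega⟩
  let i1 : Fin n := ⟨1, by omega⟩
  have hij : i0 ≠ i1 := by simp [i0, i1, Fin.ext_iff]
  let u : Matrix.SpecialLinearGroup (Fin n) F := ⟨transvection i0 i1 1, det_transvection_of_ne _ _ hij 1⟩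
  have hn1 : 1 ≤ n := by omega
  have hu : orderOf (proj n F u) = p := by
    have : orderOf u = p := by rw [← orderOf_coe]; exact orderOf_transvection p hij
    rw [orderOf_proj hn1 u (by rw [this]; exact coprime_char p), this]
  have hs : orderOf (proj n F s) = r := by
    haveI := Fact.mk hr
    refine orderOf_eq_prime ?_ fun h1 => ?_
    · rw [← map_pow, proj_eq_one_iff]
      have hall : ∀ i : Fin n, d i ^ r = a ^ r := fun i => hpow i.val i.2
      refine ⟨a ^ r, ?_, ?_⟩
      · calc (a ^ r) ^ n = ∏ i : Fin n, d i ^ r := by simp [hall]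
          _ = 1 := by rw [Finset.prod_pow, hprod, one_pow]
      · rw [coe_pow, show (s : Matrix (Fin n) (Fin n) F) = diagonal d from rfl, diagonal_pow,
          scalar_apply]
        exact congrArg diagonal (funext fun i => (hall i).symm)
    · obtain ⟨c, -, hc⟩ := (proj_eq_one_iff _).1 h1
      have hall : ∀ i : Fin n, c = d i := fun i => by
        have := congrFun (congrFun hc i) i
        simpa [s, scalar_apply] using this
      obtain ⟨i, hi, hi'⟩ := hne'
      exact hi' ((hall ⟨i, hi⟩).symm.trans ((hall i0).trans (by simp [hd, i0])))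
  have hcomm : Commute s u := by
    refine Subtype.ext ?_
    show diagonal d * transvection i0 i1 1 = transvection i0 i1 1 * diagonal d
    ext i j
    rw [diagonal_mul, mul_diagonal]
    by_cases h : i = i0 ∧ j = i1
    · obtain ⟨rfl, rfl⟩ := h
      simp [hd, i0, i1, transvection]
    · by_cases hij' : i = j
      · rw [hij', mul_comm]
      · have h' : transvection i0 i1 (1 : F) i j = 0 := by
          simp only [transvection, Matrix.add_apply, Matrix.one_apply_ne hij', zero_add,
            Matrix.single_apply]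
          exact if_neg fun hh => h ⟨hh.1.symm, hh.2.symm⟩
        rw [h', mul_zero, zero_mul]
  refine ⟨proj n F (s * u), ?_⟩
  rw [map_mul, (hcomm.map (proj n F)).orderOf_mul_eq_mul_orderOf_of_coprime
    (by rw [hs, hu]; exact (Nat.coprime_primes hr Fact.out).2 hrp), hs, hu]

/-- **Adjacency of `r` and the characteristic.** -/
theorem char_iff (p : ℕ) [Fact p.Prime] [CharP F p] {n : ℕ} (hn : 2 ≤ n) {r k : ℕ} (hr : r.Prime)
    (hrp : r ≠ p) (hk : k = orderOf ((Fintype.card F : ℕ) : ZMod r)) :
    (r * p ∉ Set.range (orderOf : ProjectiveSpecialLinearGroup (Fin n) F → ℕ)) ↔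
      (n - 2 < k ∨ (n = 3 ∧ r = 3 ∧ 3 ∣ Fintype.card F - 1 ∧ ¬ 9 ∣ Fintype.card F - 1)) := by
  haveI := Fact.mk hr
  have hk1 : 1 ≤ k := by
    rw [hk]
    refine orderOf_pos_iff.2 (isOfFinOrder_iff_pow_eq_one.2
      ⟨r - 1, by have := hr.two_le; omega, ZMod.pow_card_sub_one_eq_one ?_⟩)
    exact cast_card_ne_zero (F := F) p hr hrp
  by_cases h2 : 2 ≤ k
  · rw [element_order_ge_two p (by omega) hr hrp hk h2]
    constructor
    · exact fun h => Or.inl (by omega)
    · rintro (h | ⟨-, rfl, h3, -⟩)
      · omega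
      · exfalso
        have hc := coprime_card_sub_one (F := F) hr hk h2
        exact hr.ne_one (Nat.dvd_one.1 (hc ▸ Nat.dvd_gcd (dvd_refl 3) h3))
  · have hk' : k = 1 := by omega
    have hrq : r ∣ Fintype.card F - 1 := by
      rw [← ZMod.natCast_eq_zero_iff, Nat.cast_sub Fintype.card_pos, Nat.cast_one,
        orderOf_eq_one_iff.1 (hk.symm.trans hk'), sub_self]
    constructor
    · intro hno
      by_contra h
      refine hno (exists_element_one p (by omega) hr hrp hrq fun hh => h (Or.inr ?_))
      exact ⟨hh.1, hh.2.1, hh.2.1 ▸ hrq, hh.2.2⟩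
    · rintro (h | ⟨h1, h2, -, h4⟩)
      · exact no_element_one p (by omega) hr hrp (Or.inl (by omega))
      · exact no_element_one p (by omega) hr hrp (Or.inr ⟨h1, h2, h4⟩)

end Cfsg.Agent.PSLPrimeGraph
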