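import Cfsg.Agent.PSLPrimeGraph.Fixed

/-!
# Orders in `PSL` and block-diagonal elements
-/

set_option linter.unusedSectionVars false
set_option linter.style.haveILetI false

namespace Cfsg.Agent.PSLPrimeGraph

open Matrix

variable {F : Type*} [Field F] [Fintype F] {n : ℕ}

/-- The projection. -/
abbrev proj (n : ℕ) (F : Type*) [Field F] :
    Matrix.SpecialLinearGroup (Fin n) F →* ProjectiveSpecialLinearGroup (Fin n) F :=
  QuotientGroup.mk' _

theorem proj_eq_one_iff (x : Matrix.SpecialLinearGroup (Fin n) F) :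
    proj n F x = 1 ↔ ∃ c : F, c ^ n = 1 ∧ scalar (Fin n) c = (x : Matrix (Fin n) (Fin n) F) := by
  rw [QuotientGroup.mk'_apply, QuotientGroup.eq_one_iff, Matrix.SpecialLinearGroup.mem_center_iff,
    Fintype.card_fin]

theorem eq_one_of_coprime {c : F} {m : ℕ} (hc0 : c ≠ 0) (hm : c ^ m = 1)
    (hcop : m.Coprime (Fintype.card F - 1)) : c = 1 := by
  have h := pow_gcd_eq_one.2 ⟨hm, FiniteField.pow_card_sub_one_eq_one c hc0⟩
  rwa [Nat.coprime_iff_gcd_eq_one.1 hcop, pow_one] at h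

theorem coe_pow (x : Matrix.SpecialLinearGroup (Fin n) F) (m : ℕ) :
    ((x ^ m : Matrix.SpecialLinearGroup (Fin n) F) : Matrix (Fin n) (Fin n) F) = (x : Matrix _ _ F) ^ m :=
  Matrix.SpecialLinearGroup.coe_pow x m

theorem scalar_ne_zero (hn : 1 ≤ n) {c : F} (h : c ^ n = 1) : c ≠ 0 := fun h0 => by
  rw [h0, zero_pow (by omega)] at h
  exact zero_ne_one h

theorem scalar_inj (hn : 1 ≤ n) {a b : F} (h : scalar (Fin n) a = scalar (Fin n) b) : a = b := by
  have := congrFun (congrFun h ⟨0, hn⟩) ⟨0, hn⟩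
  simpa [scalar_apply] using this

/-- An element of order prime to `q - 1` keeps its order. -/
theorem orderOf_proj (hn : 1 ≤ n) (x : Matrix.SpecialLinearGroup (Fin n) F)
    (hcop : (orderOf x).Coprime (Fintype.card F - 1)) : orderOf (proj n F x) = orderOf x := by
  refine Nat.dvd_antisymm (orderOf_map_dvd _ x) (orderOf_dvd_of_pow_eq_one ?_)
  have h1 : proj n F (x ^ orderOf (proj n F x)) = 1 := by rw [map_pow, pow_orderOf_eq_one]
  obtain ⟨c, hc, hc'⟩ := (proj_eq_one_iff _).1 h1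
  have h2 : scalar (Fin n) (c ^ orderOf x) = scalar (Fin n) 1 := by
    rw [map_pow, hc', ← coe_pow, ← pow_mul, mul_comm, pow_mul, pow_orderOf_eq_one, one_pow,
      Matrix.SpecialLinearGroup.coe_one, map_one]
  have h3 := eq_one_of_coprime (scalar_ne_zero hn hc) (scalar_inj hn h2) hcop
  rw [h3, map_one] at hc'
  exact Subtype.ext hc'.symm

/-- Lifting an element of order prime to `q - 1`. -/
theorem exists_lift (hn : 1 ≤ n) {m : ℕ} (hm : m.Coprime (Fintype.card F - 1))
    (b : ProjectiveSpecialLinearGroup (Fin n) F) (hb : b ^ m = 1) :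
    ∃ x : Matrix.SpecialLinearGroup (Fin n) F, proj n F x = b ∧ x ^ m = 1 := by
  obtain ⟨x₀, rfl⟩ := QuotientGroup.mk'_surjective _ b
  obtain ⟨c, hc, hc'⟩ := (proj_eq_one_iff (x₀ ^ m)).1 (by rw [map_pow]; exact hb)
  have hc0 := scalar_ne_zero hn hc
  obtain ⟨d, hd, hdn⟩ : ∃ d : F, d ^ m * c = 1 ∧ d ^ n = 1 := by
    have hcop : (orderOf c).Coprime m := by
      refine Nat.Coprime.coprime_dvd_left (orderOf_dvd_of_pow_eq_one ?_) hm.symm
      exact FiniteField.pow_card_sub_one_eq_one c hc0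
    obtain ⟨e, he⟩ := exists_pow_eq_self_of_coprime hcop.symm
    refine ⟨(c ^ e)⁻¹, ?_, ?_⟩
    · rw [inv_pow, ← pow_mul, mul_comm e, pow_mul, he, inv_mul_cancel₀ hc0]
    · rw [inv_pow, ← pow_mul, mul_comm, pow_mul, hc, one_pow, inv_one]
  let z : Matrix.SpecialLinearGroup (Fin n) F :=
    ⟨scalar (Fin n) d, by rw [scalar_apply, det_diagonal, Finset.prod_const, Finset.card_univ,
      Fintype.card_fin, hdn]⟩
  have hz : proj n F z = 1 := (proj_eq_one_iff _).2 ⟨d, hdn, rfl⟩
  refine ⟨z * x₀, by rw [map_mul, hz, one_mul], Subtype.ext ?_⟩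
  have hcomm : Commute (scalar (Fin n) d) (x₀ : Matrix (Fin n) (Fin n) F) :=
    scalar_commute d (Commute.all d) _
  rw [coe_pow, Matrix.SpecialLinearGroup.coe_mul, show (z : Matrix (Fin n) (Fin n) F) = scalar (Fin n) d from rfl,
    hcomm.mul_pow, ← map_pow, ← coe_pow, ← hc', ← map_mul, hd, map_one, Matrix.SpecialLinearGroup.coe_one]

theorem exists_element {r : ℕ} (hr : r.Prime) {g : ProjectiveSpecialLinearGroup (Fin n) F} {s : ℕ}
    (hg : orderOf g = r * s) (hs : s.Prime) :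
    ∃ a b : ProjectiveSpecialLinearGroup (Fin n) F, orderOf a = r ∧ orderOf b = s ∧ Commute a b := by
  refine ⟨g ^ s, g ^ r, ?_, ?_, (Commute.refl g).pow_pow _ _⟩
  · rw [orderOf_pow' _ hs.ne_zero, hg, Nat.gcd_eq_right (dvd_mul_left s r), Nat.mul_div_cancel _ hs.pos]
  · rw [orderOf_pow' _ hr.ne_zero, hg, Nat.gcd_eq_right (dvd_mul_right r s),
      Nat.mul_div_cancel_left _ hr.pos]

/-- Block-diagonal matrices, as a multiplicative map. -/
def blk (a b : ℕ) (h : a + b = n) :
    Matrix (Fin a) (Fin a) F × Matrix (Fin b) (Fin b) F →* Matrix (Fin n) (Fin n) F where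
  toFun x := reindexAlgEquiv F F (finSumFinEquiv.trans (finCongr h)) (fromBlocks x.1 0 0 x.2)
  map_one' := by rw [Prod.fst_one, Prod.snd_one, fromBlocks_one, map_one]
  map_mul' x y := by rw [← map_mul, fromBlocks_multiply]; simp

theorem det_blk (a b : ℕ) (h : a + b = n) (A : Matrix (Fin a) (Fin a) F)
    (B : Matrix (Fin b) (Fin b) F) : (blk a b h (A, B)).det = A.det * B.det := by
  show (reindexAlgEquiv F F _ (fromBlocks A 0 0 B)).det = _
  rw [det_reindexAlgEquiv, det_fromBlocks_zero₂₁]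

theorem blk_injective (a b : ℕ) (h : a + b = n) :
    Function.Injective (blk (F := F) a b h) := fun x y hxy => by
  have h1 := (reindexAlgEquiv F F (finSumFinEquiv.trans (finCongr h))).injective hxy
  obtain ⟨e1, -, -, e2⟩ := fromBlocks_inj.1 h1
  exact Prod.ext e1 e2

theorem orderOf_blk (a b : ℕ) (h : a + b = n) (A : Matrix (Fin a) (Fin a) F)
    (B : Matrix (Fin b) (Fin b) F) : orderOf (blk a b h (A, B)) = (orderOf A).lcm (orderOf B) := by
  rw [orderOf_injective _ (blk_injective a b h), Prod.orderOf_mk]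

theorem coprime_card_sub_one {r k : ℕ} (hr : r.Prime) (hk : k = orderOf ((Fintype.card F : ℕ) : ZMod r))
    (h2k : 2 ≤ k) : r.Coprime (Fintype.card F - 1) := by
  refine (Nat.Prime.coprime_iff_not_dvd hr).2 fun h => ?_
  have h1 : ((Fintype.card F : ℕ) : ZMod r) = 1 := by
    have h2 := (ZMod.natCast_eq_zero_iff _ _).2 h
    rw [Nat.cast_sub Fintype.card_pos, Nat.cast_one, sub_eq_zero] at h2
    exact h2
  rw [h1, orderOf_one] at hk
  omega

/-- A matrix of prime order not dividing `q - 1`, unimodular. -/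
theorem exists_matrix {r k : ℕ} (hr : r.Prime) (hk : k = orderOf ((Fintype.card F : ℕ) : ZMod r))
    (h2k : 2 ≤ k) : ∃ A : Matrix (Fin k) (Fin k) F, orderOf A = r ∧ A.det = 1 := by
  classical
  haveI := Fact.mk hr
  have hpk : ((Fintype.card F : ℕ) : ZMod r) ^ k = 1 := by rw [hk, pow_orderOf_eq_one]
  have hdvd : r ∣ Nat.card (GL (Fin k) F) := by
    rw [card_GL_field]
    refine Dvd.dvd.trans ?_ (Finset.dvd_prod_of_mem _ (Finset.mem_univ (⟨0, by omega⟩ : Fin k)))
    rw [← ZMod.natCast_eq_zero_iff]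
    rw [Nat.cast_sub (Nat.pow_le_pow_right Fintype.card_pos (by simp)), Nat.cast_pow, Nat.cast_pow,
      hpk]
    simp
  obtain ⟨A, hA⟩ := exists_prime_orderOf_dvd_card' r hdvd
  refine ⟨A, by rw [orderOf_units, hA], ?_⟩
  have h1 : (A : Matrix (Fin k) (Fin k) F).det ^ r = 1 := by
    rw [← det_pow, ← Units.val_pow_eq_pow_val, ← hA, pow_orderOf_eq_one]
    exact det_one
  exact eq_one_of_coprime (fun h => by rw [h, zero_pow hr.ne_zero] at h1; exact zero_ne_one h1) h1
    (coprime_card_sub_one hr hk h2k)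

end Cfsg.Agent.PSLPrimeGraph
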