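import Cfsg.Agent.PSLPrimeGraph.Proj

/-!
# Two odd primes in the prime graph of `PSL`
-/

set_option linter.unusedSectionVars false
set_option linter.style.haveILetI false

namespace Cfsg.Agent.PSLPrimeGraph

open Matrix Module

variable {F : Type*} [Field F] [Fintype F] {n : ℕ}

theorem orderOf_coe (x : Matrix.SpecialLinearGroup (Fin n) F) :
    orderOf (x : Matrix (Fin n) (Fin n) F) = orderOf x := by
  refine orderOf_eq_orderOf_iff.2 fun m => ?_
  rw [← Matrix.SpecialLinearGroup.coe_pow, ← Matrix.SpecialLinearGroup.coe_one]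
  exact Subtype.val_injective.eq_iff

/-- From a matrix of determinant one to an element of the same order. -/
theorem exists_proj (hn : 1 ≤ n) (M : Matrix (Fin n) (Fin n) F) (hdet : M.det = 1) {m : ℕ}
    (hM : orderOf M = m) (hcop : m.Coprime (Fintype.card F - 1)) :
    m ∈ Set.range (orderOf : ProjectiveSpecialLinearGroup (Fin n) F → ℕ) := by
  let x : Matrix.SpecialLinearGroup (Fin n) F := ⟨M, hdet⟩
  have hx : orderOf x = m := by rw [← orderOf_coe]; exact hM
  exact ⟨proj n F x, by rw [orderOf_proj hn x (by rw [hx]; exact hcop), hx]⟩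

theorem cast_card_ne_zero (p : ℕ) [Fact p.Prime] [CharP F p] {r : ℕ} (hr : r.Prime) (hrp : r ≠ p) :
    ((Fintype.card F : ℕ) : ZMod r) ≠ 0 := by
  haveI := Fact.mk hr
  obtain ⟨f, hp, hf⟩ := FiniteField.card F p
  rw [hf, Nat.cast_pow]
  refine pow_ne_zero _ fun h => hrp ?_
  exact (Nat.prime_dvd_prime_iff_eq hr hp).1 ((ZMod.natCast_eq_zero_iff _ _).1 h)

theorem cast_ne_zero (p : ℕ) [Fact p.Prime] [CharP F p] {r : ℕ} (hr : r.Prime) (hrp : r ≠ p) :
    (r : F) ≠ 0 := fun h =>
  hrp ((Nat.prime_dvd_prime_iff_eq Fact.out hr).1 ((CharP.cast_eq_zero_iff F p r).1 h)).symm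

theorem order_le (p : ℕ) [Fact p.Prime] [CharP F p] {r : ℕ} (hr : r.Prime) (hrp : r ≠ p)
    (hrG : r ∣ Nat.card (ProjectiveSpecialLinearGroup (Fin n) F)) :
    orderOf ((Fintype.card F : ℕ) : ZMod r) ≤ n := by
  classical
  haveI := Fact.mk hr
  have h1 : r ∣ Nat.card (GL (Fin n) F) := hrG.trans ((Subgroup.card_quotient_dvd_card _).trans
    (Subgroup.card_dvd_of_injective _ Matrix.SpecialLinearGroup.toGL_injective))
  rw [card_GL_field] at h1
  obtain ⟨i, -, hi⟩ := (Nat.Prime.prime hr).exists_mem_finset_dvd h1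
  rw [← ZMod.natCast_eq_zero_iff, Nat.cast_sub (Nat.pow_le_pow_right Fintype.card_pos (by omega)),
    Nat.cast_pow, Nat.cast_pow, sub_eq_zero] at hi
  have h2 : ((Fintype.card F : ℕ) : ZMod r) ^ (n - i : ℕ) = 1 := by
    refine mul_right_cancel₀ (pow_ne_zero (i : ℕ) (cast_card_ne_zero (F := F) p hr hrp)) ?_
    rw [← pow_add, Nat.sub_add_cancel (by omega), hi, one_mul]
  exact (Nat.le_of_dvd (by omega) (orderOf_dvd_of_pow_eq_one h2)).trans (Nat.sub_le _ _)

/-- An element of order `r * s` in `GL l` for primitive `s`-divisor degree `l`. -/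
theorem exists_matrix_mul (p : ℕ) [Fact p.Prime] [CharP F p] {r s l : ℕ} (hr : r.Prime) (hs : s.Prime)
    (hrs : r ≠ s) (hl : 1 ≤ l) (hr' : orderOf ((Fintype.card F : ℕ) : ZMod r) ∣ l)
    (hs' : orderOf ((Fintype.card F : ℕ) : ZMod s) ∣ l) :
    ∃ A : Matrix (Fin l) (Fin l) F, orderOf A = r * s := by
  classical
  haveI : NeZero l := ⟨by omega⟩
  let E := FiniteField.Extension F p l
  haveI : Finite E := Module.finite_of_finite F
  have hcard : Nat.card E = Fintype.card F ^ l := by
    rw [FiniteField.natCard_extension, Nat.card_eq_fintype_card]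
  have hd : finrank F E = l := by
    have h := Module.natCard_eq_pow_finrank (K := F) (V := E)
    rw [hcard, Nat.card_eq_fintype_card] at h
    exact (Nat.pow_right_injective Fintype.one_lt_card h).symm
  have hdvd : r * s ∣ Nat.card Eˣ := by
    rw [Nat.card_units, hcard]
    have key : ∀ t : ℕ, orderOf ((Fintype.card F : ℕ) : ZMod t) ∣ l → t ∣ Fintype.card F ^ l - 1 := by
      intro t ht
      rw [← ZMod.natCast_eq_zero_iff, Nat.cast_sub (Nat.one_le_pow _ _ Fintype.card_pos),
        Nat.cast_pow, orderOf_dvd_iff_pow_eq_one.1 ht, Nat.cast_one, sub_self]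
    exact ((Nat.coprime_primes hr hs).2 hrs).mul_dvd_of_dvd_of_dvd (key r hr') (key s hs')
  obtain ⟨g, hg⟩ := IsCyclic.exists_ofOrder_eq_natCard (α := Eˣ)
  have hu : orderOf (g ^ (Nat.card Eˣ / (r * s))) = r * s := by
    have hN : 0 < Nat.card Eˣ := Nat.card_pos
    rw [orderOf_pow' _ (Nat.div_pos (Nat.le_of_dvd hN hdvd) (Nat.mul_pos hr.pos hs.pos)).ne', hg,
      Nat.gcd_eq_right (Nat.div_dvd_of_dvd hdvd), Nat.div_div_self hdvd hN.ne']
  let b : Basis (Fin l) F E := finBasisOfFinrankEq F E hd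
  refine ⟨Algebra.leftMulMatrix b ((g ^ (Nat.card Eˣ / (r * s)) : Eˣ) : E), ?_⟩
  exact (orderOf_injective (Algebra.leftMulMatrix b : E →* Matrix (Fin l) (Fin l) F)
    (Algebra.leftMulMatrix_injective b) _).trans (orderOf_units.trans hu)

theorem det_eq_one_of_order {l : ℕ} (A : Matrix (Fin l) (Fin l) F) {m : ℕ} (hA : orderOf A = m)
    (hm : m ≠ 0) (hcop : m.Coprime (Fintype.card F - 1)) : A.det = 1 := by
  have h : A.det ^ m = 1 := by rw [← det_pow, ← hA, pow_orderOf_eq_one, det_one]
  exact eq_one_of_coprime (fun h0 => by rw [h0, zero_pow hm] at h; exact zero_ne_one h) h hcop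

/-- **The criterion.** -/
theorem semisimple_iff (p : ℕ) [Fact p.Prime] [CharP F p] (hn : 1 ≤ n) {r s k l : ℕ} (hr : r.Prime)
    (hs : s.Prime) (hrp : r ≠ p) (hsp : s ≠ p) (hrs : r ≠ s)
    (hsG : s ∣ Nat.card (ProjectiveSpecialLinearGroup (Fin n) F))
    (hk : k = orderOf ((Fintype.card F : ℕ) : ZMod r)) (hl : l = orderOf ((Fintype.card F : ℕ) : ZMod s))
    (h2k : 2 ≤ k) (hkl : k ≤ l) :
    (r * s ∉ Set.range (orderOf : ProjectiveSpecialLinearGroup (Fin n) F → ℕ)) ↔
      (n < k + l ∧ ¬ k ∣ l) := by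
  have hrc := coprime_card_sub_one (F := F) hr hk h2k
  have hsc := coprime_card_sub_one (F := F) hs hl (h2k.trans hkl)
  have hrsc : Nat.Coprime r s := (Nat.coprime_primes hr hs).2 hrs
  constructor
  · intro hno
    refine ⟨?_, fun hdvd => hno ?_⟩
    · by_contra h
      obtain ⟨A, hA, hA'⟩ := exists_matrix (F := F) hr hk h2k
      obtain ⟨B, hB, hB'⟩ := exists_matrix (F := F) hs hl (h2k.trans hkl)
      refine hno (exists_proj hn (blk k (n - k) (by omega)
        (A, blk l (n - k - l) (by omega) (B, 1))) ?_ ?_ (hrc.mul_left hsc))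
      · rw [det_blk, det_blk, hA', hB', det_one, mul_one, mul_one]
      · rw [orderOf_blk, orderOf_blk, orderOf_one, Nat.lcm_one_right, hA, hB, hrsc.lcm_eq_mul]
    · have hln : l ≤ n := hl ▸ order_le p hs hsp hsG
      obtain ⟨A, hA⟩ := exists_matrix_mul (F := F) p hr hs hrs (by omega) (hk ▸ hdvd) (hl ▸ dvd_refl l)
      refine exists_proj hn (blk l (n - l) (by omega) (A, 1)) ?_ ?_ (hrc.mul_left hsc)
      · rw [det_blk, det_eq_one_of_order A hA (Nat.mul_ne_zero hr.ne_zero hs.ne_zero) (hrc.mul_left hsc),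
          det_one, mul_one]
      · rw [orderOf_blk, orderOf_one, Nat.lcm_one_right, hA]
  · rintro ⟨hlt, hndvd⟩ ⟨g, hg⟩
    obtain ⟨a, b, ha, hb, hab⟩ := exists_element hr hg hs
    obtain ⟨x, rfl, hx⟩ := exists_lift hn hrc a (by rw [← ha]; exact pow_orderOf_eq_one a)
    obtain ⟨y, rfl, hy⟩ := exists_lift hn hsc b (by rw [← hb]; exact pow_orderOf_eq_one b)
    -- the lifts commute
    have hxy : Commute x y := by
      have h1 : proj n F (x * y * x⁻¹ * y⁻¹) = 1 := by
        rw [map_mul, map_mul, map_mul, map_inv, map_inv, hab.eq, mul_inv_cancel_right, mul_inv_cancel]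
      obtain ⟨c, hc, hc'⟩ := (proj_eq_one_iff _).1 h1
      have hz : x * y * x⁻¹ * y⁻¹ ∈ Subgroup.center (Matrix.SpecialLinearGroup (Fin n) F) :=
        (QuotientGroup.eq_one_iff _).1 h1
      have h2 : (x * y * x⁻¹ * y⁻¹) ^ s = 1 := by
        have h3 : (x * y * x⁻¹ * y⁻¹ * y) ^ s = (x * y * x⁻¹ * y⁻¹) ^ s :=
          (Commute.mul_pow (Subgroup.mem_center_iff.1 hz y).symm s).trans (by rw [hy, mul_one])
        rw [inv_mul_cancel_right, conj_pow, hy, mul_one, mul_inv_cancel] at h3
        exact h3.symm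
      have h4 : c = 1 := by
        refine eq_one_of_coprime (scalar_ne_zero hn hc) (scalar_inj hn ?_) hsc
        rw [map_pow, hc', ← coe_pow, h2, map_one, Matrix.SpecialLinearGroup.coe_one]
      have h5 : x * y * x⁻¹ * y⁻¹ = 1 := Subtype.ext (by
        rw [← hc', h4, map_one, Matrix.SpecialLinearGroup.coe_one])
      rw [mul_inv_eq_one, mul_inv_eq_iff_eq_mul] at h5
      exact h5
    let φ : Matrix (Fin n) (Fin n) F ≃ₐ[F] Module.End F (Fin n → F) := Matrix.toLinAlgEquiv'
    set X := φ (x : Matrix (Fin n) (Fin n) F) with hX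
    set Y := φ (y : Matrix (Fin n) (Fin n) F) with hY
    have hXr : X ^ r = 1 := by rw [hX, ← map_pow, ← coe_pow, hx, Matrix.SpecialLinearGroup.coe_one, map_one]
    have hYs : Y ^ s = 1 := by rw [hY, ← map_pow, ← coe_pow, hy, Matrix.SpecialLinearGroup.coe_one, map_one]
    have hXY : Commute X Y := by
      show X * Y = Y * X
      rw [hX, hY, ← map_mul, ← map_mul, ← Matrix.SpecialLinearGroup.coe_mul, hxy.eq,
        Matrix.SpecialLinearGroup.coe_mul]
    have hne : ∀ z : Matrix.SpecialLinearGroup (Fin n) F, φ (z : Matrix (Fin n) (Fin n) F) = 1 → z = 1 :=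
      fun z hz => Subtype.ext (φ.injective (hz.trans (map_one φ).symm))
    have hX1 : X ≠ 1 := fun h => hr.ne_one (by rw [← ha, hne x h, map_one, orderOf_one])
    have hY1 : Y ≠ 1 := fun h => hs.ne_one (by rw [← hb, hne y h, map_one, orderOf_one])
    have comm : ∀ (A B : Module.End F (Fin n → F)), Commute A B → ∀ v, A (B v) = B (A v) :=
      fun A B h v => by rw [← Module.End.mul_apply, h.eq, Module.End.mul_apply]
    set U := LinearMap.range (Y - 1) with hU
    have hUY : ∀ u ∈ U, Y u ∈ U := by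
      rintro _ ⟨v, rfl⟩
      exact ⟨Y v, (comm _ _ ((Commute.refl Y).sub_right (Commute.one_right Y)) v).symm⟩
    have hUX : ∀ u ∈ U, X u ∈ U := by
      rintro _ ⟨v, rfl⟩
      exact ⟨X v, (comm _ _ (hXY.sub_right (Commute.one_right X)) v).symm⟩
    have hrF := cast_ne_zero (F := F) p hr hrp
    have hsF := cast_ne_zero (F := F) p hs hsp
    -- dimensions
    have hl1 : l ∣ finrank F U := hl ▸ dvd_finrank hs hYs U hUY
      fun u hu hyu => eq_zero_of_fixed_range hYs hsF hyu hu
    have hk1 : k ∣ finrank F (U.map (X - 1)) := hk ▸ dvd_finrank_map hr hrF hXr U hUX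
    have hl2 : l ∣ finrank F ↥(U ⊓ LinearMap.ker (X - 1)) := hl ▸ dvd_finrank hs hYs _
      (fun u hu => ⟨hUY u hu.1, by
        show (X - 1) (Y u) = 0
        rw [comm _ _ (hXY.sub_left (Commute.one_left Y)) u, LinearMap.mem_ker.1 hu.2, map_zero]⟩)
      fun u hu hyu => eq_zero_of_fixed_range hYs hsF hyu hu.1
    have hsum := Sourour.finrank_map_add (X - 1) U
    have hU0 : 0 < finrank F U := by
      refine Nat.pos_of_ne_zero fun h => hY1 (sub_eq_zero.1 (LinearMap.range_eq_bot.1 ?_))
      exact Submodule.finrank_eq_zero.1 h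
    have hUn : finrank F U ≤ n := (Submodule.finrank_le U).trans (Module.finrank_fin_fun F).le
    rcases Nat.eq_zero_or_pos (finrank F (U.map (X - 1))) with h0 | hpos
    · have hle : U ≤ LinearMap.ker (X - 1) := by
        intro u hu
        have := Submodule.finrank_eq_zero.1 h0
        exact LinearMap.mem_ker.2 ((Submodule.eq_bot_iff _).1 this _ (Submodule.mem_map_of_mem hu))
      have hdis : Disjoint U (LinearMap.range (X - 1)) := Submodule.disjoint_def.2 fun u hu hu' =>
        eq_zero_of_fixed_range hXr hrF (sub_eq_zero.1 (LinearMap.mem_ker.1 (hle hu))) hu'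
      have h2 := Submodule.finrank_add_finrank_le_of_disjoint hdis
      have h3 : k ∣ finrank F (LinearMap.range (X - 1)) := by
        rw [hk, ← Submodule.map_top]
        exact dvd_finrank_map hr hrF hXr ⊤ fun _ _ => Submodule.mem_top
      have h4 : 0 < finrank F (LinearMap.range (X - 1)) := by
        refine Nat.pos_of_ne_zero fun h => hX1 (sub_eq_zero.1 (LinearMap.range_eq_bot.1 ?_))
        exact Submodule.finrank_eq_zero.1 h
      have := Nat.le_of_dvd hU0 hl1
      have := Nat.le_of_dvd h4 h3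
      rw [Module.finrank_fin_fun] at h2
      omega
    · rcases Nat.eq_zero_or_pos (finrank F ↥(U ⊓ LinearMap.ker (X - 1))) with h0 | hpos'
      · rw [h0, add_zero] at hsum
        rw [hsum] at hk1
        obtain ⟨m, hm⟩ := hl1
        have hm2 : 2 ≤ m := by
          by_contra h
          interval_cases m
          · omega
          · rw [mul_one] at hm
            exact hndvd (hm ▸ hk1)
        have : l * 2 ≤ finrank F U := hm ▸ Nat.mul_le_mul_left l hm2
        omega
      · have := Nat.le_of_dvd hpos hk1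
        have := Nat.le_of_dvd hpos' hl2
        omega

end Cfsg.Agent.PSLPrimeGraph
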