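import Cfsg.Agent.PSLPrimeGraph.Semisimple
import Cfsg.Agent.LocalStructure.Zsigmondy

/-!
# The element order `q ^ m + 1` in `PSL (2 m, q)`
-/

set_option linter.unusedSectionVars false
set_option linter.style.haveILetI false

namespace Cfsg.Agent.PSLPrimeGraph

open Matrix Module Polynomial

theorem dvd_geom {q d : ℕ} (hq : 1 ≤ q) (hd : d ∣ q - 1) (k : ℕ) :
    d ∣ ∑ i ∈ Finset.range k, q ^ i ↔ d ∣ k := by
  have h1 : (q : ZMod d) = 1 := by
    have h := (ZMod.natCast_eq_zero_iff _ _).2 hd
    rwa [Nat.cast_sub hq, Nat.cast_one, sub_eq_zero] at h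
  rw [← ZMod.natCast_eq_zero_iff, ← ZMod.natCast_eq_zero_iff, Nat.cast_sum]
  simp [h1]

theorem dvd_half {d m : ℕ} (hm : m ≠ 0) (hd : d ∣ 2 * m) (h2 : padicValNat 2 d ≤ padicValNat 2 m) :
    d ∣ m := by
  have hd0 : d ≠ 0 := fun h => by rw [h, zero_dvd_iff] at hd; omega
  rw [← Nat.factorization_le_iff_dvd hd0 hm]
  intro p
  by_cases hp : p = 2
  · subst hp
    rwa [Nat.factorization_def _ Nat.prime_two, Nat.factorization_def _ Nat.prime_two]
  · have h := (Nat.factorization_le_iff_dvd hd0 (by omega)).2 hd p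
    rwa [Nat.factorization_mul two_ne_zero hm, Finsupp.add_apply, Nat.prime_two.factorization,
      Finsupp.single_apply, if_neg (Ne.symm hp), zero_add] at h

theorem geom_sum_mul' {q : ℕ} (hq : 1 ≤ q) (k : ℕ) :
    (∑ i ∈ Finset.range k, q ^ i) * (q - 1) = q ^ k - 1 := by
  have h := geom_sum_mul_add (q - 1) k
  rw [Nat.sub_add_cancel hq] at h
  omega

variable {F : Type*} [Field F] [Fintype F]

theorem exists_singer (p : ℕ) [Fact p.Prime] [CharP F p] {m : ℕ} (hm : 1 ≤ m)
    (h2 : padicValNat 2 (Fintype.card F - 1) ≤ padicValNat 2 m) :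
    ∃ g : ProjectiveSpecialLinearGroup (Fin (2 * m)) F, orderOf g = Fintype.card F ^ m + 1 := by
  classical
  set q := Fintype.card F with hq
  have hq2 : 2 ≤ q := Fintype.one_lt_card
  haveI : NeZero (2 * m) := ⟨by omega⟩
  let E := FiniteField.Extension F p (2 * m)
  haveI : Finite E := Module.finite_of_finite F
  have hcard : Nat.card E = q ^ (2 * m) := by
    rw [FiniteField.natCard_extension, Nat.card_eq_fintype_card]
  have hd : finrank F E = 2 * m := by
    have h := Module.natCard_eq_pow_finrank (K := F) (V := E)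
    rw [hcard, Nat.card_eq_fintype_card] at h
    exact (Nat.pow_right_injective hq2 h).symm
  let b : Basis (Fin (2 * m)) F E := finBasisOfFinrankEq F E hd
  obtain ⟨u, hu⟩ := IsCyclic.exists_ofOrder_eq_natCard (α := Eˣ)
  rw [Nat.card_units, hcard] at hu
  set z : E := ((u : E)) ^ (q - 1) with hz
  have hdet : (Algebra.leftMulMatrix b z).det = 1 := by
    rw [← Algebra.norm_eq_matrix_det, hz, map_pow]
    refine FiniteField.pow_card_sub_one_eq_one _ fun h0 => ?_
    exact (Units.map (Algebra.norm F : E →* F) u).ne_zero h0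
  let x : Matrix.SpecialLinearGroup (Fin (2 * m)) F := ⟨Algebra.leftMulMatrix b z, hdet⟩
  set S := ∑ i ∈ Finset.range m, q ^ i with hS
  set N := ∑ i ∈ Finset.range (2 * m), q ^ i with hN
  have hNS : N = (q ^ m + 1) * S := by
    rw [hN, hS, two_mul, Finset.sum_range_add, add_mul, one_mul, Finset.mul_sum]
    simp_rw [pow_add]
    ring
  have key : ∀ j : ℕ, proj (2 * m) F x ^ j = 1 → q ^ m + 1 ∣ j := by
    intro j hj
    rw [← map_pow] at hj
    obtain ⟨c, hc, hc'⟩ := (proj_eq_one_iff _).1 hj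
    have h1 : z ^ (j * (q - 1)) = 1 := by
      apply Algebra.leftMulMatrix_injective b
      rw [map_one, pow_mul, map_pow, map_pow]
      show ((x : Matrix (Fin (2 * m)) (Fin (2 * m)) F) ^ j) ^ (q - 1) = 1
      rw [← coe_pow, ← hc', ← map_pow,
        FiniteField.pow_card_sub_one_eq_one c (scalar_ne_zero (by omega) hc), map_one]
    rw [hz, ← pow_mul] at h1
    have h2' : (u ^ ((q - 1) * (j * (q - 1))) : Eˣ) = 1 := Units.ext (by rw [Units.val_pow_eq_pow_val]; exact h1)
    have h3 := orderOf_dvd_of_pow_eq_one h2'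
    rw [hu, ← geom_sum_mul' (by omega), mul_comm (q - 1), ← hN] at h3
    have h4 : N ∣ j * (q - 1) := Nat.dvd_of_mul_dvd_mul_right (by omega) h3
    have h5 : N ∣ j * Nat.gcd N (q - 1) := by
      rw [← Nat.gcd_mul_left]
      exact Nat.dvd_gcd (dvd_mul_left _ _) h4
    have h6 : Nat.gcd N (q - 1) ∣ S := by
      have hdn : Nat.gcd N (q - 1) ∣ 2 * m :=
        (dvd_geom (by omega) (Nat.gcd_dvd_right _ _) _).1 (Nat.gcd_dvd_left _ _)
      refine (dvd_geom (by omega) (Nat.gcd_dvd_right _ _) _).2 (dvd_half (by omega) hdn (le_trans ?_ h2))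
      exact (padicValNat_dvd_iff_le (by omega)).1 (pow_padicValNat_dvd.trans (Nat.gcd_dvd_right _ _))
    have h7 := h5.trans (mul_dvd_mul_left j h6)
    rw [hNS] at h7
    refine Nat.dvd_of_mul_dvd_mul_right ?_ h7
    rw [hS]
    exact Finset.sum_pos (fun i _ => pow_pos (by omega) i) ⟨0, by simp; omega⟩
  have hdvd := key _ (pow_orderOf_eq_one _)
  exact ⟨proj (2 * m) F x ^ (orderOf (proj (2 * m) F x) / (q ^ m + 1)),
    orderOf_pow_orderOf_div (orderOf_pos _).ne' hdvd⟩

theorem singer_bound (p : ℕ) [Fact p.Prime] [CharP F p] (hodd : Odd (Fintype.card F)) {m : ℕ}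
    (hm : 2 ≤ m) (g : ProjectiveSpecialLinearGroup (Fin (2 * m)) F)
    (hg : orderOf g = Fintype.card F ^ m + 1) :
    padicValNat 2 (Fintype.card F - 1) < padicValNat 2 (2 * m) := by
  classical
  set q := Fintype.card F with hq
  have hq3 : 3 ≤ q := by have := Fintype.one_lt_card (α := F); rcases hodd with ⟨j, hj⟩; omega
  obtain ⟨r, hr, hrdvd, hprim⟩ := LocalStructure.zsigmondy (a := q) (n := 2 * m) (by omega) (by omega)
    (fun h => by omega) (fun h => by omega)
  haveI := Fact.mk hr
  have hcast : ∀ k : ℕ, r ∣ q ^ k - 1 ↔ ((q : ℕ) : ZMod r) ^ k = 1 := by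
    intro k
    rw [← ZMod.natCast_eq_zero_iff, Nat.cast_sub (Nat.one_le_pow _ _ (by omega)), Nat.cast_pow,
      Nat.cast_one, sub_eq_zero]
  have hord : orderOf ((q : ℕ) : ZMod r) = 2 * m :=
    (orderOf_eq_iff (by omega)).2 ⟨(hcast _).1 hrdvd, fun k hk hk0 h => hprim k hk0 hk ((hcast k).2 h)⟩
  have hrp : r ≠ p := by
    intro h
    obtain ⟨f, -, hf⟩ := FiniteField.card F p
    have := (hcast _).1 hrdvd
    rw [hq, hf, ← h, Nat.cast_pow, ZMod.natCast_self, zero_pow f.pos.ne', zero_pow (by omega)] at this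
    exact zero_ne_one this
  have hrc : r.Coprime (q - 1) := coprime_card_sub_one (F := F) hr hord.symm (by omega)
  have hrQ : r ∣ q ^ m + 1 := by
    have h1 : r ∣ (q ^ m + 1) * (q ^ m - 1) := by
      rwa [← Nat.sq_sub_sq, one_pow, ← pow_mul, mul_comm]
    exact (hr.dvd_mul.1 h1).resolve_right (hprim m (by omega) (by omega))
  -- lifts
  have hga : orderOf (g ^ ((q ^ m + 1) / r)) = r := by
    rw [← hg] at hrQ ⊢
    exact orderOf_pow_orderOf_div (orderOf_pos _).ne' hrQ
  obtain ⟨x, hxg, hx⟩ := exists_lift (n := 2 * m) (by omega) hrc (g ^ ((q ^ m + 1) / r))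
    (by
      have := pow_orderOf_eq_one (g ^ ((q ^ m + 1) / r))
      rwa [hga] at this)
  obtain ⟨y, hy⟩ := QuotientGroup.mk'_surjective _ g
  have hyx : Commute y x := by
    have h1 : proj (2 * m) F (y * x * y⁻¹ * x⁻¹) = 1 := by
      rw [map_mul, map_mul, map_mul, map_inv, map_inv, hxg, show proj (2 * m) F y = g from hy,
        ((Commute.refl g).pow_right _).eq, mul_inv_cancel_right, mul_inv_cancel]
    obtain ⟨c, hc, hc'⟩ := (proj_eq_one_iff _).1 h1
    have hz : y * x * y⁻¹ * x⁻¹ ∈ Subgroup.center (Matrix.SpecialLinearGroup (Fin (2 * m)) F) :=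
      (QuotientGroup.eq_one_iff _).1 h1
    have h2 : (y * x * y⁻¹ * x⁻¹) ^ r = 1 := by
      have h3 : (y * x * y⁻¹ * x⁻¹ * x) ^ r = (y * x * y⁻¹ * x⁻¹) ^ r :=
        (Commute.mul_pow (Subgroup.mem_center_iff.1 hz x).symm r).trans (by rw [hx, mul_one])
      rw [inv_mul_cancel_right, conj_pow, hx, mul_one, mul_inv_cancel] at h3
      exact h3.symm
    have h4 : c = 1 := by
      refine eq_one_of_coprime (scalar_ne_zero (by omega) hc) (scalar_inj (by omega : 1 ≤ 2 * m) ?_) hrc
      rw [map_pow, hc', ← coe_pow, h2, map_one, Matrix.SpecialLinearGroup.coe_one]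
    have h5 : y * x * y⁻¹ * x⁻¹ = 1 := Subtype.ext (by
      rw [← hc', h4, map_one, Matrix.SpecialLinearGroup.coe_one])
    rw [mul_inv_eq_one, mul_inv_eq_iff_eq_mul] at h5
    exact h5
  let φ : Matrix (Fin (2 * m)) (Fin (2 * m)) F ≃ₐ[F] Module.End F (Fin (2 * m) → F) :=
    Matrix.toLinAlgEquiv'
  set X := φ (x : Matrix (Fin (2 * m)) (Fin (2 * m)) F) with hX
  set Y := φ (y : Matrix (Fin (2 * m)) (Fin (2 * m)) F) with hY
  have hXr : X ^ r = 1 := by rw [hX, ← map_pow, ← coe_pow, hx, Matrix.SpecialLinearGroup.coe_one, map_one]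
  have hYX : Commute Y X := by
    show Y * X = X * Y
    rw [hX, hY, ← map_mul, ← map_mul, ← Matrix.SpecialLinearGroup.coe_mul, hyx.eq,
      Matrix.SpecialLinearGroup.coe_mul]
  have hX1 : X ≠ 1 := fun h => hr.ne_one (by
    rw [← hga, ← hxg, show x = 1 from Subtype.ext (φ.injective (h.trans (map_one φ).symm)), map_one,
      orderOf_one])
  have hrF := cast_ne_zero (F := F) p hr hrp
  -- irreducibility
  have hW : LinearMap.range (X - 1) = ⊤ := by
    have h1 : 2 * m ∣ finrank F (LinearMap.range (X - 1)) := by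
      refine (dvd_of_eq hord.symm).trans ?_
      exact dvd_finrank hr hXr _ (by rintro _ ⟨v, rfl⟩; exact ⟨X v, by simp⟩)
        fun u hu hxu => eq_zero_of_fixed_range hXr hrF hxu hu
    have h2 : 0 < finrank F (LinearMap.range (X - 1)) := by
      refine Nat.pos_of_ne_zero fun h => hX1 (sub_eq_zero.1 (LinearMap.range_eq_bot.1 ?_))
      exact Submodule.finrank_eq_zero.1 h
    refine Submodule.eq_top_of_finrank_eq (le_antisymm (Submodule.finrank_le _) ?_)
    rw [Module.finrank_fin_fun]
    exact Nat.le_of_dvd h2 h1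
  have hirr : ∀ U : Submodule F (Fin (2 * m) → F), (∀ u ∈ U, X u ∈ U) → U ≠ ⊥ → U = ⊤ := by
    intro U hU hU0
    have h1 : 2 * m ∣ finrank F U := by
      refine (dvd_of_eq hord.symm).trans ?_
      exact dvd_finrank hr hXr U hU
        fun u _ hxu => eq_zero_of_fixed_range hXr hrF hxu (hW.ge Submodule.mem_top)
    refine Submodule.eq_top_of_finrank_eq (le_antisymm (Submodule.finrank_le _) ?_)
    rw [Module.finrank_fin_fun]
    exact Nat.le_of_dvd (Nat.pos_of_ne_zero fun h => hU0 (Submodule.finrank_eq_zero.1 h)) h1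
  have haeval : ∀ (P : F[X]) (T : Module.End F (Fin (2 * m) → F)), Commute T X → Commute T (aeval X P) := by
    intro P T hT
    induction P using Polynomial.induction_on' with
    | add P₁ P₂ h₁ h₂ => rw [map_add]; exact h₁.add_right h₂
    | monomial i c =>
      rw [aeval_monomial]
      exact (show Commute T (algebraMap F _ c) from (Algebra.commutes c T).symm).mul_right (hT.pow_right i)
  have hker : ∀ T : Module.End F (Fin (2 * m) → F), Commute T X → ∀ v, v ≠ 0 → T v = 0 → T = 0 := by
    intro T hT v hv hTv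
    have h1 := hirr (LinearMap.ker T) (fun u hu => by
      rw [LinearMap.mem_ker, ← Module.End.mul_apply, hT.eq, Module.End.mul_apply,
        LinearMap.mem_ker.1 hu, map_zero]) (fun h => hv ((Submodule.eq_bot_iff _).1 h v hTv))
    exact LinearMap.ker_eq_top.1 h1
  set P := minpoly F X with hP
  have hPm : P.Monic := minpoly.monic (Algebra.IsIntegral.isIntegral X)
  haveI : Nonempty (Fin (2 * m)) := ⟨⟨0, by omega⟩⟩
  haveI : Fact (Irreducible P) := ⟨by
    refine ⟨minpoly.not_isUnit F X, fun A B hAB => ?_⟩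
    have h0 : aeval X A * aeval X B = 0 := by rw [← map_mul, ← hAB]; exact minpoly.aeval F X
    have hA0 : A ≠ 0 := fun h => hPm.ne_zero (by rw [hAB, h, zero_mul])
    have hB0 : B ≠ 0 := fun h => hPm.ne_zero (by rw [hAB, h, mul_zero])
    have hdeg : P.natDegree = A.natDegree + B.natDegree := by rw [hAB, natDegree_mul hA0 hB0]
    by_cases hB : aeval X B = 0
    · left
      have h1 := natDegree_le_of_dvd (minpoly.dvd F X hB) hB0
      rw [← hP] at h1
      rw [eq_C_of_natDegree_eq_zero (show A.natDegree = 0 by omega)]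
      exact isUnit_C.2 (isUnit_iff_ne_zero.2 fun h => hA0 (by
        rw [eq_C_of_natDegree_eq_zero (show A.natDegree = 0 by omega), h, map_zero]))
    · right
      obtain ⟨v, hv⟩ : ∃ v, aeval X B v ≠ 0 := by
        by_contra h
        push Not at h
        exact hB (LinearMap.ext h)
      have hA : aeval X A = 0 := hker _ ((haeval A X (Commute.refl X)).symm) _ hv
        (congrArg (fun T : Module.End F (Fin (2 * m) → F) => T v) h0)
      have h1 := natDegree_le_of_dvd (minpoly.dvd F X hA) hA0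
      rw [← hP] at h1
      rw [eq_C_of_natDegree_eq_zero (show B.natDegree = 0 by omega)]
      exact isUnit_C.2 (isUnit_iff_ne_zero.2 fun h => hB0 (by
        rw [eq_C_of_natDegree_eq_zero (show B.natDegree = 0 by omega), h, map_zero]))⟩
  let ι₀ : AdjoinRoot P →+* Module.End F (Fin (2 * m) → F) :=
    Ideal.Quotient.lift (Ideal.span {P}) (aeval X : F[X] →ₐ[F] Module.End F (Fin (2 * m) → F)).toRingHom
      fun A hA => by
        obtain ⟨B, rfl⟩ := Ideal.mem_span_singleton.1 hA
        show aeval X (P * B) = 0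
        rw [map_mul, show aeval X P = 0 from minpoly.aeval F X, zero_mul]
  have hι₀ : ∀ A : F[X], ι₀ (AdjoinRoot.mk P A) = aeval X A := fun A => rfl
  let ι : AdjoinRoot P →ₐ[F] Module.End F (Fin (2 * m) → F) :=
    { ι₀ with
      commutes' := fun c => by
        show ι₀ (algebraMap F (AdjoinRoot P) c) = _
        rw [AdjoinRoot.algebraMap_eq, ← AdjoinRoot.mk_C, hι₀, aeval_C] }
  have hι : ∀ e, ∃ A : F[X], ι e = aeval X A := fun e => by
    induction e using AdjoinRoot.induction_on with
    | ih A => exact ⟨A, hι₀ A⟩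
  have hroot : ι (AdjoinRoot.root P) = X := (hι₀ Polynomial.X).trans (aeval_X X)
  obtain ⟨v₀, hv₀⟩ := exists_ne (0 : Fin (2 * m) → F)
  let ev : AdjoinRoot P →ₗ[F] (Fin (2 * m) → F) := (LinearMap.applyₗ v₀).comp ι.toLinearMap
  have hev : ∀ e, ev e = ι e v₀ := fun e => rfl
  have hinj : Function.Injective ev := by
    rw [← LinearMap.ker_eq_bot, Submodule.eq_bot_iff]
    intro e he
    obtain ⟨A, hA⟩ := hι e
    have : ι e = 0 := hker _ (by rw [hA]; exact (haeval A X (Commute.refl X)).symm) v₀ hv₀ he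
    exact RingHom.injective ι.toRingHom (this.trans (map_zero ι).symm)
  have hsurj : Function.Surjective ev := by
    rw [← LinearMap.range_eq_top]
    refine hirr _ ?_ fun h => hv₀ ?_
    · rintro _ ⟨e, rfl⟩
      refine ⟨AdjoinRoot.root P * e, ?_⟩
      rw [hev, hev, map_mul, Module.End.mul_apply]
      rw [hroot]
    · have := (Submodule.eq_bot_iff _).1 h (ev 1) ⟨1, rfl⟩
      rwa [hev, map_one, Module.End.one_apply] at this
  let Φ : AdjoinRoot P ≃ₗ[F] (Fin (2 * m) → F) := LinearEquiv.ofBijective ev ⟨hinj, hsurj⟩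
  set T := Φ.symm (Y v₀) with hT
  have hTmul : ∀ e, Φ (T * e) = Y (Φ e) := by
    intro e
    obtain ⟨A, hA⟩ := hι e
    show ev (T * e) = Y (ev e)
    rw [hev, hev, mul_comm T e, map_mul, Module.End.mul_apply]
    rw [show ι T v₀ = Y v₀ from Φ.apply_symm_apply (Y v₀), hA, ← Module.End.mul_apply,
      ← (haeval A Y hYX).eq, Module.End.mul_apply]
  have hconj : (Φ : AdjoinRoot P →ₗ[F] Fin (2 * m) → F) ∘ₗ Algebra.lmul F (AdjoinRoot P) T ∘ₗ
      (Φ.symm : (Fin (2 * m) → F) →ₗ[F] AdjoinRoot P) = Y := LinearMap.ext fun v => by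
    show Φ (T * Φ.symm v) = Y v
    rw [hTmul, Φ.apply_symm_apply]
  have hnorm : Algebra.norm F T = 1 := by
    rw [Algebra.norm_apply, ← LinearMap.det_conj _ Φ, hconj]
    exact (LinearMap.det_toLin' _).trans y.2
  haveI : FiniteDimensional F (AdjoinRoot P) := Φ.symm.finiteDimensional
  haveI : Finite (AdjoinRoot P) := Module.finite_of_finite F
  have hcardE : Nat.card (AdjoinRoot P) = q ^ (2 * m) := by
    rw [Module.natCard_eq_pow_finrank (K := F), Φ.finrank_eq, Module.finrank_fin_fun,
      Nat.card_eq_fintype_card]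
  set S := ∑ i ∈ Finset.range m, q ^ i with hS
  set N := ∑ i ∈ Finset.range (2 * m), q ^ i with hN
  have hNS : N = (q ^ m + 1) * S := by
    rw [hN, hS, two_mul, Finset.sum_range_add, add_mul, one_mul, Finset.mul_sum]
    simp_rw [pow_add]
    ring
  have hTN : T ^ N = 1 := by
    have h := FiniteField.algebraMap_norm_eq_pow (K := F) (x := T)
    rw [hnorm, map_one, hcardE, Nat.card_eq_fintype_card, ← geom_sum_mul' (by omega),
      Nat.mul_div_cancel _ (by omega)] at h
    exact h.symm
  have hD : 2 * m ≠ 0 := by omega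
  by_contra hle
  push Not at hle
  set D := 2 ^ padicValNat 2 (2 * m) with hDdef
  have hDn : D ∣ 2 * m := pow_padicValNat_dvd
  have hDq : D ∣ q - 1 := (pow_dvd_pow 2 hle).trans pow_padicValNat_dvd
  have hDN : D ∣ N := (dvd_geom (by omega) hDq _).2 hDn
  obtain ⟨j, hj⟩ := hDN
  have hpow : proj (2 * m) F y ^ j = 1 := by
    rw [← map_pow, proj_eq_one_iff]
    have h1 : (T ^ j) ^ (q - 1) = 1 := by
      obtain ⟨e, he⟩ := hDq
      rw [← pow_mul, he, show j * (D * e) = N * e by rw [hj]; ring, pow_mul, hTN, one_pow]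
    obtain ⟨c, hc⟩ : ∃ c : F, algebraMap F (AdjoinRoot P) c = T ^ j := by
      by_contra hno
      push Not at hno
      letI := Fintype.ofFinite (AdjoinRoot P)
      have hsub : insert (T ^ j) ((Finset.univ.erase (0 : F)).image (algebraMap F (AdjoinRoot P))) ⊆
          (nthRoots (q - 1) (1 : AdjoinRoot P)).toFinset := by
        intro w hw
        rw [Multiset.mem_toFinset, mem_nthRoots (by omega)]
        rcases Finset.mem_insert.1 hw with rfl | hw
        · exact h1
        · obtain ⟨c, hc, rfl⟩ := Finset.mem_image.1 hw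
          rw [← map_pow, FiniteField.pow_card_sub_one_eq_one c (Finset.mem_erase.1 hc).1, map_one]
      have h2 := (Finset.card_le_card hsub).trans ((Multiset.toFinset_card_le _).trans (card_nthRoots _ _))
      rw [Finset.card_insert_of_notMem fun h => by
          obtain ⟨c, -, hc⟩ := Finset.mem_image.1 h
          exact hno c hc,
        Finset.card_image_of_injective _ (algebraMap F (AdjoinRoot P)).injective,
        Finset.card_erase_of_mem (Finset.mem_univ _), Finset.card_univ] at h2
      omega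
    have hY' : Y ^ j = c • 1 := LinearMap.ext fun v => by
      have hpw : ∀ i e, Φ (T ^ i * e) = (Y ^ i) (Φ e) := by
        intro i
        induction i with
        | zero => intro e; simp
        | succ i ih => intro e; rw [pow_succ', mul_assoc, hTmul, ih, pow_succ', Module.End.mul_apply]
      rw [LinearMap.smul_apply, Module.End.one_apply]
      conv_lhs => rw [← Φ.apply_symm_apply v, ← hpw, ← hc, ← Algebra.smul_def, map_smul,
        Φ.apply_symm_apply]
    have hmat : scalar (Fin (2 * m)) c = ((y ^ j : Matrix.SpecialLinearGroup (Fin (2 * m)) F) :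
        Matrix (Fin (2 * m)) (Fin (2 * m)) F) := φ.injective (by
      rw [coe_pow, map_pow, ← hY, hY', scalar_apply, ← smul_one_eq_diagonal, map_smul, map_one])
    refine ⟨c, ?_, hmat⟩
    have h4 := congrArg Matrix.det hmat
    rw [(y ^ j).2, scalar_apply, det_diagonal, Finset.prod_const, Finset.card_univ,
      Fintype.card_fin] at h4
    exact h4
  have h3 := orderOf_dvd_of_pow_eq_one hpow
  rw [show proj (2 * m) F y = g from hy, hg] at h3
  have h4 : D ∣ S := by
    refine Nat.dvd_of_mul_dvd_mul_left (show 0 < q ^ m + 1 by omega) ?_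
    rw [← hNS, hj, mul_comm (q ^ m + 1)]
    exact mul_dvd_mul_left D h3
  have h5 := (dvd_geom (by omega) hDq m).1 h4
  rw [hDdef, padicValNat_dvd_iff_le (by omega : m ≠ 0), padicValNat.mul two_ne_zero (by omega),
    padicValNat_self] at h5
  omega

/-- **The criterion.** -/
theorem singer_iff (p : ℕ) [Fact p.Prime] [CharP F p] (hodd : Odd (Fintype.card F)) {n : ℕ} (hn : 4 ≤ n)
    (heven : Even n) :
    (∃ g : ProjectiveSpecialLinearGroup (Fin n) F, orderOf g = Fintype.card F ^ (n / 2) + 1) ↔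
      padicValNat 2 (Fintype.card F - 1) < padicValNat 2 n := by
  obtain ⟨m, rfl⟩ : ∃ m, n = 2 * m := ⟨n / 2, by rcases heven with ⟨m, rfl⟩; omega⟩
  rw [Nat.mul_div_cancel_left m two_pos]
  refine ⟨fun ⟨g, hg⟩ => singer_bound p hodd (by omega) g hg, fun h => exists_singer p (by omega) ?_⟩
  rw [padicValNat.mul two_ne_zero (by omega), padicValNat_self] at h
  omega

end Cfsg.Agent.PSLPrimeGraph
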