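import Cfsg.Agent.PSLPrimeGraph.Semisimple

/-!
# The characteristic in the prime graph of `PSL`
-/

set_option linter.unusedSectionVars false
set_option linter.style.haveILetI false

namespace Cfsg.Agent.PSLPrimeGraph

open Matrix Module

variable {F : Type*} [Field F] [Fintype F] {n : ℕ}

theorem coprime_char (p : ℕ) [Fact p.Prime] [CharP F p] : p.Coprime (Fintype.card F - 1) := by
  refine (Nat.Prime.coprime_iff_not_dvd Fact.out).2 fun h => ?_
  obtain ⟨f, -, hf⟩ := FiniteField.card F p
  have h1 : p ∣ Fintype.card F := hf ▸ dvd_pow_self p f.pos.ne'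
  have h2 := Nat.dvd_sub h1 h
  rw [Nat.sub_sub_self Fintype.card_pos] at h2
  exact (Fact.out : p.Prime).ne_one (Nat.dvd_one.1 h2)

/-- An element of given order in the multiplicative group. -/
theorem exists_unit_order {m : ℕ} (hm : m ∣ Fintype.card F - 1) : ∃ a : F, orderOf a = m := by
  classical
  obtain ⟨g, hg⟩ := IsCyclic.exists_ofOrder_eq_natCard (α := Fˣ)
  have hN : Nat.card Fˣ = Fintype.card F - 1 := by rw [Nat.card_units, Nat.card_eq_fintype_card]
  have hpos : 0 < Nat.card Fˣ := Nat.card_pos
  rw [← hN] at hm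
  refine ⟨((g ^ (Nat.card Fˣ / m) : Fˣ) : F), orderOf_units.trans ?_⟩
  have hm0 : 0 < m := Nat.pos_of_dvd_of_pos hm hpos
  rw [orderOf_pow' _ (Nat.div_pos (Nat.le_of_dvd hpos hm) hm0).ne', hg,
    Nat.gcd_eq_right (Nat.div_dvd_of_dvd hm), Nat.div_div_self hm hpos.ne']

theorem orderOf_transvection (p : ℕ) [Fact p.Prime] [CharP F p] {i j : Fin n} (hij : i ≠ j) :
    orderOf (transvection i j (1 : F)) = p := by
  have h : ∀ m : ℕ, transvection i j (1 : F) ^ m = transvection i j (m : F) := by
    intro m
    induction m with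
    | zero => simp
    | succ m ih => rw [pow_succ, ih, transvection_mul_transvection_same i j hij, Nat.cast_succ]
  refine orderOf_eq_prime (by rw [h, CharP.cast_eq_zero, transvection_zero]) fun h1 => ?_
  have := congrFun (congrFun h1 i) j
  simp [transvection, hij] at this

/-- Lifts commute. -/
theorem commute_lifts (hn : 1 ≤ n) {s : ℕ} (hsc : s.Coprime (Fintype.card F - 1))
    {x y : Matrix.SpecialLinearGroup (Fin n) F} (hy : y ^ s = 1)
    (hab : Commute (proj n F x) (proj n F y)) : Commute x y := by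
  have h1 : proj n F (x * y * x⁻¹ * y⁻¹) = 1 := by
    rw [map_mul, map_mul, map_mul, map_inv, map_inv, hab.eq, mul_inv_cancel_right, mul_inv_cancel]
  obtain ⟨c, hc, hc'⟩ := (proj_eq_one_iff _).1 h1
  have hz : x * y * x⁻¹ * y⁻¹ ∈ Subgroup.center (Matrix.SpecialLinearGroup (Fin n) F) :=
    (QuotientGroup.eq_one_iff _).1 h1
  have h2 : (x * y * x⁻¹ * y⁻¹) ^ s = 1 := by
    have h3 : (x * y * x⁻¹ * y⁻¹ * y) ^ s = (x * y * x⁻¹ * y⁻¹) ^ s :=
      (Commute.mul_pow (Subgroup.mem_center_iff.1 hz y).symm s).trans (by rw [hy, mul_one])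
    rw [inv_mul_cancel_right, conj_pow, hy, mul_one, mul_inv_cancel] at h3
    exact h3.symm
  have h4 : c = 1 := by
    refine eq_one_of_coprime (scalar_ne_zero hn hc) (scalar_inj hn ?_) hsc
    rw [map_pow, hc', ← coe_pow, h2, map_one, Matrix.SpecialLinearGroup.coe_one]
  have h5 : x * y * x⁻¹ * y⁻¹ = 1 := Subtype.ext (by
    rw [← hc', h4, map_one, Matrix.SpecialLinearGroup.coe_one])
  rw [mul_inv_eq_one, mul_inv_eq_iff_eq_mul] at h5
  exact h5

theorem element_order_ge_two (p : ℕ) [Fact p.Prime] [CharP F p] (hn : 1 ≤ n) {r k : ℕ} (hr : r.Prime)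
    (hrp : r ≠ p) (hk : k = orderOf ((Fintype.card F : ℕ) : ZMod r)) (h2k : 2 ≤ k) :
    (r * p ∈ Set.range (orderOf : ProjectiveSpecialLinearGroup (Fin n) F → ℕ)) ↔ k + 2 ≤ n := by
  have hrc := coprime_card_sub_one (F := F) hr hk h2k
  have hpc := coprime_char (F := F) p
  have hp : p.Prime := Fact.out
  constructor
  · rintro ⟨g, hg⟩
    obtain ⟨a, b, ha, hb, hab⟩ := exists_element hr hg hp
    obtain ⟨x, rfl, hx⟩ := exists_lift hn hrc a (by rw [← ha]; exact pow_orderOf_eq_one a)
    obtain ⟨y, rfl, hy⟩ := exists_lift hn hpc b (by rw [← hb]; exact pow_orderOf_eq_one b)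
    have hxy := commute_lifts hn hpc hy hab
    haveI : Nonempty (Fin n) := ⟨⟨0, hn⟩⟩
    let φ : Matrix (Fin n) (Fin n) F ≃ₐ[F] Module.End F (Fin n → F) := Matrix.toLinAlgEquiv'
    set X := φ (x : Matrix (Fin n) (Fin n) F) with hX
    set Y := φ (y : Matrix (Fin n) (Fin n) F) with hY
    set N := Y - 1 with hNdef
    have hXr : X ^ r = 1 := by rw [hX, ← map_pow, ← coe_pow, hx, Matrix.SpecialLinearGroup.coe_one, map_one]
    have hN : IsNilpotent N := ⟨p, by
      rw [hNdef, hY, ← map_one φ, ← map_sub, ← map_pow,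
        sub_pow_char_of_commute (p := p) (Commute.one_right _), one_pow, ← coe_pow, hy,
        Matrix.SpecialLinearGroup.coe_one, sub_self, map_zero]⟩
    have hXN : Commute X N := by
      refine Commute.sub_right ?_ (Commute.one_right X)
      show X * Y = Y * X
      rw [hX, hY, ← map_mul, ← map_mul, ← Matrix.SpecialLinearGroup.coe_mul, hxy.eq,
        Matrix.SpecialLinearGroup.coe_mul]
    have hne : ∀ z : Matrix.SpecialLinearGroup (Fin n) F, φ (z : Matrix (Fin n) (Fin n) F) = 1 → z = 1 :=
      fun z hz => Subtype.ext (φ.injective (hz.trans (map_one φ).symm))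
    have hX1 : X ≠ 1 := fun h => hr.ne_one (by rw [← ha, hne x h, map_one, orderOf_one])
    have hN0 : N ≠ 0 := fun h => hp.ne_one (by rw [← hb, hne y (sub_eq_zero.1 h), map_one, orderOf_one])
    have hrF := cast_ne_zero (F := F) p hr hrp
    have comm : ∀ v, X (N v) = N (X v) := fun v => by
      rw [← Module.End.mul_apply, hXN.eq, Module.End.mul_apply]
    have comm1 : ∀ v, (X - 1) (N v) = N ((X - 1) v) := fun v => by
      show X (N v) - N v = N (X v - v)
      rw [comm, map_sub]
    set W := LinearMap.range (X - 1) with hW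
    set E := LinearMap.ker (X - 1) with hE
    have hWX : ∀ w ∈ W, X w ∈ W := by
      rintro _ ⟨v, rfl⟩
      exact ⟨X v, by simp⟩
    have hdimW : k ∣ finrank F W := hk ▸ dvd_finrank hr hXr W hWX
      fun u hu hxu => eq_zero_of_fixed_range hXr hrF hxu hu
    have hWpos : 0 < finrank F W := by
      refine Nat.pos_of_ne_zero fun h => hX1 (sub_eq_zero.1 (LinearMap.range_eq_bot.1 ?_))
      exact Submodule.finrank_eq_zero.1 h
    have hdim : finrank F W + finrank F E = n :=
      (LinearMap.finrank_range_add_finrank_ker (X - 1)).trans (Module.finrank_fin_fun F)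
    have hNW : W.map N ≤ W := by
      rintro _ ⟨_, ⟨v, rfl⟩, rfl⟩
      exact ⟨N v, comm1 v⟩
    obtain ⟨j, hj⟩ := hN
    by_cases h0 : W.map N = ⊥
    · have hE2 : 2 ≤ finrank F E := by
        by_contra hlt
        refine hN0 (LinearMap.ext fun v => ?_)
        have hEN : ∀ u ∈ E, N u ∈ E := fun u hu => by
          rw [hE, LinearMap.mem_ker, comm1, LinearMap.mem_ker.1 hu, map_zero]
        have hEz : ∀ u ∈ E, N u = 0 := by
          intro u hu
          obtain ⟨e, he⟩ := finrank_le_one_iff.1 (show finrank F E ≤ 1 by omega)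
          obtain ⟨t, ht⟩ := he ⟨u, hu⟩
          obtain ⟨c, hc⟩ := he ⟨N e, hEN e e.2⟩
          have hc' : c • (e : Fin n → F) = N e := congrArg Subtype.val hc
          have ht' : t • (e : Fin n → F) = u := congrArg Subtype.val ht
          rw [← ht', map_smul]
          have hpow : ∀ i, (N ^ i) (e : Fin n → F) = c ^ i • (e : Fin n → F) := by
            intro i
            induction i with
            | zero => simp
            | succ i ih => rw [pow_succ, Module.End.mul_apply, ← hc', map_smul, ih, smul_smul, pow_succ']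
          have h1 := hpow j
          rw [hj, LinearMap.zero_apply, eq_comm, smul_eq_zero] at h1
          rcases h1 with h1 | h1
          · rw [← hc', pow_eq_zero_iff'.1 h1 |>.1, zero_smul, smul_zero]
          · rw [← hc', h1, smul_zero, smul_zero]
        have hdis : Disjoint W E := Submodule.disjoint_def.2 fun u hu hu' =>
          eq_zero_of_fixed_range hXr hrF (sub_eq_zero.1 (LinearMap.mem_ker.1 hu')) hu
        have htop : W ⊔ E = ⊤ := Submodule.eq_top_of_disjoint W E
          (by rw [hdim, Module.finrank_fin_fun]) hdis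
        obtain ⟨w, hw, e, he, rfl⟩ := Submodule.mem_sup.1 (htop.ge (Submodule.mem_top (x := v)))
        rw [map_add, (Submodule.eq_bot_iff _).1 h0 _ (Submodule.mem_map_of_mem hw), hEz e he,
          add_zero, LinearMap.zero_apply]
      have := Nat.le_of_dvd hWpos hdimW
      omega
    · have hA : k ∣ finrank F ↥(W ⊓ LinearMap.ker N) := hk ▸ dvd_finrank hr hXr _
        (fun u hu => ⟨hWX u hu.1, by
          show N (X u) = 0
          rw [← comm, LinearMap.mem_ker.1 hu.2, map_zero]⟩)
        fun u hu hxu => eq_zero_of_fixed_range hXr hrF hxu hu.1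
      have hB : k ∣ finrank F (W.map N) := hk ▸ dvd_finrank hr hXr _
        (by rintro _ ⟨w, hw, rfl⟩; exact ⟨X w, hWX w hw, (comm w).symm⟩)
        fun u hu hxu => eq_zero_of_fixed_range hXr hrF hxu (hNW hu)
      have hsum := Sourour.finrank_map_add N W
      have hBpos : 0 < finrank F (W.map N) :=
        Nat.pos_of_ne_zero fun h => h0 (Submodule.finrank_eq_zero.1 h)
      have hApos : 0 < finrank F ↥(W ⊓ LinearMap.ker N) := by
        refine Nat.pos_of_ne_zero fun h => h0 ?_
        have hWA : ∀ i w, w ∈ W → (N ^ i) w ∈ W := by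
          intro i
          induction i with
          | zero => exact fun w hw => hw
          | succ i ih =>
            intro w hw
            rw [pow_succ', Module.End.mul_apply]
            exact hNW (Submodule.mem_map_of_mem (ih w hw))
        have key : ∀ i w, w ∈ W → (N ^ i) w = 0 → w = 0 := by
          intro i
          induction i with
          | zero => exact fun w _ h => h
          | succ i ih =>
            intro w hw hi
            refine ih w hw ((Submodule.eq_bot_iff _).1 (Submodule.finrank_eq_zero.1 h) _ ⟨hWA i w hw, ?_⟩)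
            show N ((N ^ i) w) = 0
            rwa [pow_succ', Module.End.mul_apply] at hi
        refine (Submodule.eq_bot_iff _).2 ?_
        rintro _ ⟨w, hw, rfl⟩
        rw [key j w hw (by rw [hj]; rfl), map_zero]
      have := Nat.le_of_dvd hBpos hB
      have := Nat.le_of_dvd hApos hA
      omega
  · intro hkn
    obtain ⟨A, hA, hA'⟩ := exists_matrix (F := F) hr hk h2k
    have hij : (⟨0, by omega⟩ : Fin (n - k)) ≠ ⟨1, by omega⟩ := by simp [Fin.ext_iff]
    refine exists_proj hn (blk k (n - k) (by omega)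
      (A, transvection (⟨0, by omega⟩ : Fin (n - k)) ⟨1, by omega⟩ 1)) ?_ ?_ (hrc.mul_left hpc)
    · rw [det_blk, hA', det_transvection_of_ne _ _ hij, mul_one]
    · rw [orderOf_blk, hA, orderOf_transvection p hij,
        ((Nat.coprime_primes hr hp).2 hrp).lcm_eq_mul]

/-- An element which is a scalar plus a nilpotent is central after projecting, if its order is prime
to `p`. -/
theorem proj_eq_one_of_nilpotent (p : ℕ) [Fact p.Prime] [CharP F p] (hn : 1 ≤ n) {r : ℕ}
    (hrp : r.Coprime p) {x : Matrix.SpecialLinearGroup (Fin n) F} (hx : proj n F x ^ r = 1) {a : F}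
    (hnil : IsNilpotent ((x : Matrix (Fin n) (Fin n) F) - scalar (Fin n) a)) : proj n F x = 1 := by
  haveI : Nonempty (Fin n) := ⟨⟨0, hn⟩⟩
  obtain ⟨j, hj⟩ := hnil
  have hle : j ≤ p ^ j := (Nat.lt_pow_self (Fact.out : p.Prime).one_lt).le
  have h1 : (x : Matrix (Fin n) (Fin n) F) ^ p ^ j = scalar (Fin n) (a ^ p ^ j) := by
    have h2 := sub_pow_char_pow_of_commute (p := p) (n := j) (x := (x : Matrix (Fin n) (Fin n) F))
      (y := scalar (Fin n) a) (scalar_commute a (Commute.all a) _).symm
    rw [pow_eq_zero_of_le hle hj, eq_comm, sub_eq_zero] at h2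
    rw [h2, map_pow]
  have h3 : proj n F x ^ p ^ j = 1 := by
    rw [← map_pow, proj_eq_one_iff]
    refine ⟨a ^ p ^ j, ?_, by rw [← h1, coe_pow]⟩
    have h4 := congrArg Matrix.det h1
    rw [det_pow, x.2, one_pow, scalar_apply, det_diagonal, Finset.prod_const, Finset.card_univ,
      Fintype.card_fin] at h4
    exact h4.symm
  have h5 := pow_gcd_eq_one.2 ⟨hx, h3⟩
  rwa [(hrp.pow_right j).gcd_eq_one, pow_one] at h5

end Cfsg.Agent.PSLPrimeGraph
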